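/-
Groups of Monster type: the squaring map of `Q` is the form `norm / 16` on the lattice modulo two.
-/
import Cfsg.Prelude.Def_MonsterType
import Cfsg.Agent.Lib.Basic
import Cfsg.Agent.Lib.ExtraspecialTwo
import Cfsg.Agent.Lib.Leech.ModStab

set_option autoImplicit false

namespace CfsgLib.MonsterQ

open Cfsg CfsgLeech CfsgLib.ExtraTwo
open scoped Pointwise commutatorElement

variable {G : Type*} [Group G] [Finite G] {z : G} {Q : Subgroup (Subgroup.centralizer ({z} : Set G))} [Q.Normal]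

/-- The centralizer. -/
abbrev Cz (z : G) : Subgroup G := Subgroup.centralizer ({z} : Set G)

/-- The involution inside its centralizer. -/
def zc (z : G) : Cz z := ⟨z, Subgroup.mem_centralizer_singleton_iff.mpr rfl⟩

theorem zc_central : zc z ∈ Subgroup.center (Cz z) :=
  Subgroup.mem_center_iff.mpr fun x => Subtype.ext (Subgroup.mem_centralizer_singleton_iff.mp x.2)

/-- All the data. -/
structure Data (z : G) (Q : Subgroup (Cz z)) [Q.Normal] where
  set' : IsExtraspecialCentralizerSetting z Q 12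
  e : Cz z ⧸ Q ≃* Spor.Co1
  ψ : leechLattice → Q ⧸ Subgroup.center Q
  iso : IsLeechModTwoIso Q e ψ

theorem exists_data (hM : IsOfMonsterType z Q) : Nonempty (Data z Q) := by
  obtain ⟨h, e, ψ, hψ⟩ := hM; exact ⟨⟨h, e, ψ, hψ⟩⟩

namespace Data

variable (D : Data z Q)
include D

theorem zc_mem : zc z ∈ Q := by
  rw [← D.set'.2.1]
  exact Subgroup.mem_sup_right (CfsgLib.le_fittingSubgroup (N := Subgroup.center (Cz z)) (by
    letI : CommGroup ↥(Subgroup.center (Cz z)) := { (inferInstance : Group ↥(Subgroup.center (Cz z))) with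
      mul_comm := fun a b => Subtype.ext (Subgroup.mem_center_iff.mp b.2 a) }
    exact CommGroup.isNilpotent) zc_central)

/-- The involution inside `Q`. -/
def zq : Q := ⟨zc z, D.zc_mem⟩

theorem coe_zq : (((D.zq : Q) : Cz z) : G) = z := rfl

theorem ext2 : Ext2 ↥Q D.zq := by
  obtain ⟨w, hw⟩ := ofExtraspecial D.set'.2.2.1
  have hc : D.zq ∈ Subgroup.center ↥Q :=
    Subgroup.mem_center_iff.mpr fun x => Subtype.ext (Subgroup.mem_center_iff.mp zc_central (x : Cz z))
  rcases (hw.center_iff _).mp hc with e | e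
  · exfalso
    have : z = 1 := congrArg (fun q : Q => ((q : Cz z) : G)) e
    have h2 := D.set'.1
    rw [this, orderOf_one] at h2
    norm_num at h2
  · rw [e]; exact hw

theorem card_Q : Nat.card ↥Q = 2 ^ (2 * 12 + 1) := D.set'.2.2.2.1

theorem psi_add (v w : leechLattice) : D.ψ (v + w) = D.ψ v * D.ψ w := D.iso.1 v w

theorem psi_cg {v w : ↥leechLattice} : D.ψ v = D.ψ w ↔ Cg v w := by
  have h : D.ψ (v - w) * D.ψ w = D.ψ v := by rw [← D.psi_add, sub_add_cancel]
  constructor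
  · intro he
    rw [← he] at h
    exact (D.iso.2.2.1 _).mp (mul_eq_right.mp h)
  · intro hc
    rw [← h, (D.iso.2.2.1 _).mpr hc, one_mul]

theorem psi_zero : D.ψ 0 = 1 := (D.iso.2.2.1 0).mpr ⟨0, by rw [add_zero]⟩

theorem mk_eq_mk {a b : Q} : (QuotientGroup.mk a : Q ⧸ Subgroup.center Q) = QuotientGroup.mk b ↔
    b = a ∨ b = a * D.zq := by
  rw [QuotientGroup.eq, D.ext2.center_iff]
  constructor
  · rintro (h | h)
    · exact Or.inl (inv_mul_eq_one.mp h).symm
    · exact Or.inr (inv_mul_eq_iff_eq_mul.mp h)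
  · rintro (h | h) <;> rw [h] <;> simp

theorem sq_congr {a b : Q} (h : b = a ∨ b = a * D.zq) : b * b = a * a := by
  rcases h with rfl | rfl
  · rfl
  · rw [(D.ext2.z_comm a).symm.mul_mul_mul_comm, D.ext2.zz, mul_one]

omit D in
theorem mid_comm (a b : Q) : a⁻¹ * b * a * b⁻¹ = 1 ↔ a * b = b * a := by
  rw [mul_inv_eq_one, mul_assoc, inv_mul_eq_iff_eq_mul, eq_comm]

open Classical in
/-- The squaring form on `Q`. -/
noncomputable def sqf (_D : Data z Q) (a : Q) : ZMod 2 := if a * a = 1 then 0 else 1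

open Classical in
/-- The commutator form on `Q`. -/
noncomputable def bf (_D : Data z Q) (a b : Q) : ZMod 2 := if a * b = b * a then 0 else 1

theorem bf_mul (a b c : Q) : D.bf (a * b) c = D.bf a c + D.bf b c := by
  unfold bf
  have h := D.ext2.mul_comm_iff (g₁ := a) (g₂ := b) (a := c)
  by_cases h1 : a * c = c * a <;> by_cases h2 : b * c = c * b <;> simp [h1, h2, h] <;> decide

theorem sqf_mul (a b : Q) : D.sqf (a * b) = D.sqf a + D.sqf b + D.bf a b := by
  have e : (a * b) * (a * b) = (a * a) * ((a⁻¹ * b * a * b⁻¹) * (b * b)) := by group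
  have hm : a⁻¹ * b * a * b⁻¹ = ⁅a⁻¹, b⁆ := by rw [commutatorElement_def]; group
  have hz : D.zq ≠ 1 := D.ext2.ne
  unfold sqf bf
  rw [e]
  rcases D.ext2.sq a with ha | ha <;> rcases D.ext2.sq b with hb | hb <;>
    rcases D.ext2.comm_cases a⁻¹ b with hc | hc <;> rw [← hm] at hc
  all_goals
    by_cases hab : a * b = b * a
    · have := (mid_comm a b).mpr hab
      first
        | (exfalso; exact hz (hc.symm.trans this))
        | (rw [ha, hb, hc, if_pos hab]; simp [hz, D.ext2.zz] <;> decide)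
    · first
        | (exfalso; exact hab ((mid_comm a b).mp hc))
        | (rw [ha, hb, hc, if_neg hab]; simp [hz, D.ext2.zz] <;> decide)

/-- A representative of the image of a lattice vector. -/
noncomputable def rep (v : ↥leechLattice) : Q := (D.ψ v).out

theorem mk_rep (v : ↥leechLattice) : QuotientGroup.mk (D.rep v) = D.ψ v := QuotientGroup.out_eq' _

theorem rep_spec {v : ↥leechLattice} {a : Q} (h : D.ψ v = QuotientGroup.mk a) :
    D.sqf (D.rep v) = D.sqf a := by
  unfold sqf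
  rw [D.sq_congr (D.mk_eq_mk.mp (h.symm.trans (D.mk_rep v).symm))]

/-- The squaring form on the lattice. -/
noncomputable def qf (v : ↥leechLattice) : ZMod 2 := D.sqf (D.rep v)

theorem qf_inv (g : ↥Co0) (v : ↥leechLattice) : D.qf (g • v) = D.qf v := by
  obtain ⟨x, hx⟩ := D.e.surjective (QuotientGroup.mk g)
  obtain ⟨h, rfl⟩ := QuotientGroup.mk_surjective x
  have := D.iso.2.2.2 h g hx.symm v (D.rep v) (D.mk_rep v).symm
  rw [qf, D.rep_spec this, qf]
  unfold sqf
  set a := D.rep v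
  have hconj : ((h * (a : Cz z) * h⁻¹) * (h * (a : Cz z) * h⁻¹) : Cz z) = h * ((a * a : Q) : Cz z) * h⁻¹ := by
    rw [Subgroup.coe_mul]; group
  by_cases ha : a * a = 1
  · rw [if_pos ha, if_pos]
    refine Subtype.ext ?_
    rw [Subgroup.coe_mul]
    show (h * (a : Cz z) * h⁻¹) * (h * (a : Cz z) * h⁻¹) = 1
    rw [hconj, ha, Subgroup.coe_one]; group
  · rw [if_neg ha, if_neg]
    intro hb
    have hb' : (h * (a : Cz z) * h⁻¹) * (h * (a : Cz z) * h⁻¹) = 1 := congrArg Subtype.val hb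
    rw [hconj, mul_inv_eq_one, mul_eq_left] at hb'
    exact ha (Subtype.ext hb')

theorem qf_eq (v : ↥leechLattice) : D.qf v = ((sqNorm (v : GolayPt → ℤ) / 16 : ℤ) : ZMod 2) := by
  refine CfsgLeech.invariant_form D.qf (fun v w => ?_) (fun u v w => ?_) D.qf_inv ?_ v
  · refine D.rep_spec ?_
    rw [D.mk_rep, D.psi_cg]
    exact ⟨w, by abel⟩
  · have h2 : ∀ a b : ↥leechLattice, D.qf (a + b) = D.sqf (D.rep a * D.rep b) := fun a b =>
      D.rep_spec (by rw [D.psi_add, QuotientGroup.mk_mul, D.mk_rep, D.mk_rep])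
    have h3 : D.qf (u + v + w) = D.sqf (D.rep u * D.rep v * D.rep w) :=
      D.rep_spec (by rw [D.psi_add, D.psi_add, QuotientGroup.mk_mul, QuotientGroup.mk_mul, D.mk_rep, D.mk_rep, D.mk_rep])
    rw [h3, h2, h2, h2, qf, qf, qf]
    simp only [D.sqf_mul, D.bf_mul]
    generalize D.sqf (D.rep u) = a
    generalize D.sqf (D.rep v) = b
    generalize D.sqf (D.rep w) = c
    generalize D.bf (D.rep u) (D.rep v) = d
    generalize D.bf (D.rep u) (D.rep w) = f
    generalize D.bf (D.rep v) (D.rep w) = g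
    revert a b c d f g; decide
  · by_contra hall
    push Not at hall
    have hsq : ∀ a : Q, a * a = 1 := fun a => by
      obtain ⟨v, hv⟩ := D.iso.2.1 (QuotientGroup.mk a)
      have h := hall v
      rw [qf, D.rep_spec hv] at h
      unfold sqf at h
      by_contra hne
      rw [if_neg hne] at h
      exact one_ne_zero h
    have htop : Subgroup.center ↥Q = ⊤ := eq_top_iff.mpr fun a _ => Subgroup.mem_center_iff.mpr fun b => by
      calc b * a = (b * a)⁻¹ := (inv_eq_of_mul_eq_one_right (hsq _)).symm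
        _ = a⁻¹ * b⁻¹ := mul_inv_rev _ _
        _ = a * b := by rw [inv_eq_of_mul_eq_one_right (hsq a), inv_eq_of_mul_eq_one_right (hsq b)]
    have h2 := D.ext2.card_center
    rw [htop, Subgroup.card_top, D.card_Q] at h2
    norm_num at h2

theorem sq_iff {v : ↥leechLattice} {a : Q} (h : D.ψ v = QuotientGroup.mk a) :
    a * a = 1 ↔ (32 : ℤ) ∣ sqNorm (v : GolayPt → ℤ) := by
  have h1 : D.sqf a = ((sqNorm (v : GolayPt → ℤ) / 16 : ℤ) : ZMod 2) := (D.rep_spec h).symm.trans (D.qf_eq v)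
  have h16 := sqNorm_dvd (mem_leech.mp v.2)
  unfold sqf at h1
  by_cases ha : a * a = 1
  · rw [if_pos ha, eq_comm, ZMod.intCast_zmod_eq_zero_iff_dvd] at h1
    refine ⟨fun _ => ?_, fun _ => ha⟩
    norm_num at h1
    omega
  · rw [if_neg ha] at h1
    refine ⟨fun hh => absurd hh ha, fun hd => ?_⟩
    rw [show ((sqNorm (v : GolayPt → ℤ) / 16 : ℤ) : ZMod 2) = 0 by
      rw [ZMod.intCast_zmod_eq_zero_iff_dvd]; norm_num; omega] at h1
    exact absurd h1 one_ne_zero

theorem not_center {v : ↥leechLattice} {a : Q} (h : D.ψ v = QuotientGroup.mk a) (h0 : v ≠ 0)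
    (hn : sqNorm (v : GolayPt → ℤ) ≤ 64) : a ∉ Subgroup.center ↥Q := fun hc =>
  not_cg_zero h0 hn (D.psi_cg.mp (by rw [h, D.psi_zero]; exact (QuotientGroup.eq_one_iff a).mpr hc))

omit D in
theorem ne_zero_of_norm {v : ↥leechLattice} {n : ℤ} (hv : sqNorm (v : GolayPt → ℤ) = n) (hn : n ≠ 0) : v ≠ 0 := by
  rintro rfl
  exact hn (hv.symm.trans (by simp [sqNorm]))

theorem exists_shell {a : Q} (ha : a * a = 1) (hc : a ∉ Subgroup.center ↥Q) :
    ∃ v : ↥leechLattice, D.ψ v = QuotientGroup.mk a ∧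
      (sqNorm (v : GolayPt → ℤ) = 32 ∨ sqNorm (v : GolayPt → ℤ) = 64) := by
  obtain ⟨v, hv⟩ := D.iso.2.1 (QuotientGroup.mk a)
  obtain ⟨y, hy, hn, w, hw, he⟩ := exists_short_rep v.2
  have hyv : D.ψ ⟨y, hy⟩ = QuotientGroup.mk a := by
    rw [← hv, D.psi_cg]
    exact Cg.symm' ⟨⟨w, hw⟩, Subtype.ext (by rw [AddSubgroup.coe_add, ← two_nsmul]; exact he)⟩
  refine ⟨⟨y, hy⟩, hyv, ?_⟩
  have hd : (32 : ℤ) ∣ sqNorm y := (D.sq_iff hyv).mp ha
  have h0 : y ≠ 0 := by
    rintro rfl
    refine hc ((QuotientGroup.eq_one_iff a).mp ?_)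
    rw [← hyv]; exact D.psi_zero
  have := sqNorm_min (mem_leech.mp hy) h0
  show sqNorm y = 32 ∨ sqNorm y = 64
  omega

theorem norm_unique {v w : ↥leechLattice} (h : D.ψ v = D.ψ w) (hv : sqNorm (v : GolayPt → ℤ) ≤ 64)
    (hw : sqNorm (w : GolayPt → ℤ) ≤ 64) : sqNorm (v : GolayPt → ℤ) = sqNorm (w : GolayPt → ℤ) :=
  (norm_of_cg (D.psi_cg.mp h) hv hw).1

/-- Elements of one class are conjugate inside `Q`. -/
theorem conj_in_Q {a b : Q} (hc : a ∉ Subgroup.center ↥Q)
    (h : (QuotientGroup.mk a : Q ⧸ Subgroup.center Q) = QuotientGroup.mk b) : ∃ c : Q, c * a * c⁻¹ = b := by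
  rcases D.mk_eq_mk.mp h with rfl | rfl
  · exact ⟨1, by simp⟩
  · rw [Subgroup.mem_center_iff] at hc
    push Not at hc
    obtain ⟨c, hc⟩ := hc
    refine ⟨c, ?_⟩
    rcases D.ext2.comm_cases a⁻¹ c with e | e
    · exfalso
      apply hc
      rw [commutatorElement_eq_one_iff_mul_comm] at e
      calc c * a = a * (a⁻¹ * c) * a := by group
        _ = a * (c * a⁻¹) * a := by rw [e]
        _ = a * c := by group
    · rw [← e, commutatorElement_def]; group

theorem conj_of_norm {a b : Q} {v w : ↥leechLattice} (ha : D.ψ v = QuotientGroup.mk a)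
    (hb : D.ψ w = QuotientGroup.mk b) (hvw : sqNorm (v : GolayPt → ℤ) = sqNorm (w : GolayPt → ℤ))
    (hn : sqNorm (v : GolayPt → ℤ) = 32 ∨ sqNorm (v : GolayPt → ℤ) = 64) :
    ∃ h : Cz z, h * (a : Cz z) * h⁻¹ = b := by
  obtain ⟨g, hg⟩ : ∃ g : ↥Co0, g • v = w := by
    rcases hn with hn | hn
    · exact shell_transitive (fun _ h h' => eqv32 h h') v w hn (hvw.symm.trans hn)
    · exact shell_transitive (fun _ h h' => eqv64 h h') v w hn (hvw.symm.trans hn)
  obtain ⟨x, hx⟩ := D.e.surjective (QuotientGroup.mk g)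
  obtain ⟨h, rfl⟩ := QuotientGroup.mk_surjective x
  have h1 := D.iso.2.2.2 h g hx.symm v a ha
  rw [hg] at h1
  obtain ⟨c, hc⟩ := D.conj_in_Q (D.not_center h1 (ne_zero_of_norm (n := sqNorm (w : GolayPt → ℤ)) rfl
    (by rw [← hvw]; rcases hn with hn | hn <;> rw [hn] <;> norm_num))
    (by rw [← hvw]; rcases hn with hn | hn <;> rw [hn] <;> norm_num)) (h1.symm.trans hb)
  refine ⟨(c : Cz z) * h, ?_⟩
  have := congrArg Subtype.val hc
  simp only [Subgroup.coe_mul, Subgroup.coe_inv] at this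
  rw [← this]; group

end Data

end CfsgLib.MonsterQ
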