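/-
Groups of Monster type: centralizers in `C` of involutions of `Q`, and their images in `C / Q`.
-/
import Cfsg.Agent.Lib.MonsterQ.Basic

set_option autoImplicit false

namespace CfsgLib.MonsterQ

open Cfsg CfsgLeech CfsgLib.ExtraTwo
open scoped Pointwise commutatorElement

variable {G : Type*} [Group G] [Finite G] {z : G} {Q : Subgroup (Subgroup.centralizer ({z} : Set G))} [Q.Normal]

theorem card_map_mk_mul {H : Type*} [Group H] (N : Subgroup H) [N.Normal] (X : Subgroup H) :
    Nat.card ↥(X.map (QuotientGroup.mk' N)) * Nat.card ↥(X ⊓ N) = Nat.card ↥X := by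
  set f := (QuotientGroup.mk' N).comp X.subtype with hf
  have hr : f.range = X.map (QuotientGroup.mk' N) := by rw [hf, MonoidHom.range_comp, Subgroup.range_subtype]
  have hk : f.ker = (X ⊓ N).subgroupOf X := by
    rw [hf, ← MonoidHom.comap_ker, QuotientGroup.ker_mk', Subgroup.inf_subgroupOf_left]; rfl
  have h := f.ker.card_mul_index
  rw [Subgroup.index_ker, hr, hk, Nat.card_congr (Subgroup.subgroupOfEquivOfLe (inf_le_left : X ⊓ N ≤ X)).toEquiv] at h
  rw [mul_comm]; exact h

namespace Data

variable (D : Data z Q)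
include D

theorem map_centralizer {a : Q} {v : ↥leechLattice} (h : D.ψ v = QuotientGroup.mk a)
    (hc : a ∉ Subgroup.center ↥Q) :
    (Subgroup.centralizer ({(a : Cz z)} : Set (Cz z))).map (QuotientGroup.mk' Q) =
      (modImg v).comap D.e.toMonoidHom := by
  ext y
  obtain ⟨x, rfl⟩ := QuotientGroup.mk_surjective y
  obtain ⟨g, hg⟩ := QuotientGroup.mk_surjective (D.e (QuotientGroup.mk x))
  have h1 := D.iso.2.2.2 x g hg v a h
  rw [Subgroup.mem_comap, show D.e.toMonoidHom (QuotientGroup.mk x) = QuotientGroup.mk g from hg.symm,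
    mem_modImg, ← D.psi_cg, h1, h]
  constructor
  · rintro ⟨x', hx', he⟩
    obtain ⟨g', hg'⟩ := QuotientGroup.mk_surjective (D.e (QuotientGroup.mk x'))
    have h2 := D.iso.2.2.2 x' g' hg' v a h
    have hx'c : x' * (a : Cz z) * x'⁻¹ = a := by
      rw [Subgroup.mem_centralizer_singleton_iff.mp hx', mul_inv_cancel_right]
    have hxx : (QuotientGroup.mk g' : Spor.Co1) = QuotientGroup.mk g := by
      rw [hg', hg]; exact congrArg D.e he
    have h3 := D.iso.2.2.2 x' g (hxx.symm.trans hg') v a h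
    rw [h1] at h3
    rw [h3]
    exact congrArg QuotientGroup.mk (Subtype.ext hx'c)
  · intro he
    obtain ⟨c, hc'⟩ := D.conj_in_Q (a := ⟨x * (a : Cz z) * x⁻¹, (inferInstance : Q.Normal).conj_mem _ a.2 x⟩)
      (by
        intro hcen
        apply hc
        have h3 : (QuotientGroup.mk a : Q ⧸ Subgroup.center Q) = 1 := by
          rw [← he]; exact (QuotientGroup.eq_one_iff _).mpr hcen
        exact (QuotientGroup.eq_one_iff a).mp h3) he
    refine ⟨(c : Cz z) * x, Subgroup.mem_centralizer_singleton_iff.mpr ?_, ?_⟩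
    · have h4 := congrArg Subtype.val hc'
      simp only [Subgroup.coe_mul, Subgroup.coe_inv] at h4
      rw [← mul_inv_eq_iff_eq_mul]
      calc (c : Cz z) * x * (a : Cz z) * ((c : Cz z) * x)⁻¹ = (c : Cz z) * (x * (a : Cz z) * x⁻¹) * (c : Cz z)⁻¹ := by group
        _ = a := h4
    · rw [QuotientGroup.mk'_apply, QuotientGroup.mk_mul, (QuotientGroup.eq_one_iff (c : Cz z)).mpr c.2, one_mul]

theorem card_centralizer_Q {a : Q} (hc : a ∉ Subgroup.center ↥Q) :
    Nat.card ↥(Subgroup.centralizer ({(a : Cz z)} : Set (Cz z)) ⊓ Q) = 2 ^ 24 := by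
  classical
  set f : ↥Q →* Multiplicative (ZMod 2) :=
    MonoidHom.mk' (fun b => Multiplicative.ofAdd (D.bf b a)) (fun b c => by rw [D.bf_mul]; rfl) with hf
  have hmem : ∀ b : Q, b ∈ f.ker ↔ b * a = a * b := fun b => by
    rw [MonoidHom.mem_ker, hf, MonoidHom.mk'_apply]
    show D.bf b a = 0 ↔ _
    unfold bf
    by_cases h : b * a = a * b <;> simp [h]
  have hsurj : Function.Surjective f := by
    rw [Subgroup.mem_center_iff] at hc
    push Not at hc
    obtain ⟨b, hb⟩ := hc
    intro y
    rcases (show ∀ t : ZMod 2, t = 0 ∨ t = 1 by decide) (Multiplicative.toAdd y) with h | h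
    · exact ⟨1, by rw [map_one]; exact Multiplicative.toAdd.injective h.symm⟩
    · refine ⟨b, Multiplicative.toAdd.injective ?_⟩
      rw [h]
      show D.bf b a = 1
      unfold bf
      rw [if_neg hb]
  have h := f.ker.card_mul_index
  rw [Subgroup.index_ker, MonoidHom.range_eq_top.mpr hsurj, Subgroup.card_top, D.card_Q, Nat.card_eq_fintype_card (α := Multiplicative (ZMod 2)),
    Fintype.card_multiplicative, ZMod.card] at h
  have he : (Subgroup.centralizer ({(a : Cz z)} : Set (Cz z)) ⊓ Q) = f.ker.map Q.subtype := by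
    ext x
    constructor
    · rintro ⟨h1, h2⟩
      refine ⟨⟨x, h2⟩, (hmem _).mpr (Subtype.ext ?_), rfl⟩
      exact Subgroup.mem_centralizer_singleton_iff.mp h1
    · rintro ⟨b, hb, rfl⟩
      exact ⟨Subgroup.mem_centralizer_singleton_iff.mpr (congrArg Subtype.val ((hmem b).mp hb)), b.2⟩
  rw [he, Subgroup.card_map_of_injective Q.subtype_injective]
  norm_num at h ⊢
  omega

theorem card_centralizer {a : Q} {v : ↥leechLattice} (h : D.ψ v = QuotientGroup.mk a)
    (hc : a ∉ Subgroup.center ↥Q) :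
    Nat.card ↥(Subgroup.centralizer ({(a : Cz z)} : Set (Cz z))) = Nat.card ↥(modImg v) * 2 ^ 24 := by
  rw [← card_map_mk_mul Q (Subgroup.centralizer ({(a : Cz z)} : Set (Cz z))), D.card_centralizer_Q hc,
    D.map_centralizer h hc]
  congr 1
  refine Nat.card_congr (Equiv.subtypeEquiv D.e.toEquiv fun y => Iff.rfl)

theorem card_map_mk_dvd (X : Subgroup (Cz z)) :
    Nat.card ↥(X.map (QuotientGroup.mk' Q)) ∣ 4157776806543360000 := by
  have h := Subgroup.card_subgroup_dvd_card (X.map (QuotientGroup.mk' Q))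
  rwa [Nat.card_congr D.e.toEquiv, CfsgLeech.co1_card] at h

end Data

end CfsgLib.MonsterQ
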