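/-
Groups of Monster type: a conjugate of `z` in `Q` belongs to a vector of norm 64, and `Q` meets its conjugate in `2 ^ 13`.
-/
import Cfsg.Agent.Lib.MonsterQ.Stab

set_option autoImplicit false

namespace CfsgLib.MonsterQ

open Cfsg CfsgLeech CfsgLib.ExtraTwo
open scoped Pointwise commutatorElement

variable {G : Type*} [Group G] [Finite G] {z : G} {Q : Subgroup (Subgroup.centralizer ({z} : Set G))} [Q.Normal]

/-- The conjugate of `Q`, seen in `C`. -/
def Qc (Q : Subgroup (Cz z)) (g : G) : Subgroup (Cz z) :=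
  ((Q.map (Cz z).subtype).map (MulAut.conj g).toMonoidHom).comap (Cz z).subtype

theorem mem_Qc {g : G} {x : Cz z} : x ∈ Qc Q g ↔ ∃ q ∈ Q, g * (q : G) * g⁻¹ = (x : G) := by
  constructor
  · rintro ⟨b, ⟨q, hq, rfl⟩, hb⟩
    exact ⟨q, hq, hb⟩
  · rintro ⟨q, hq, he⟩
    exact ⟨q, ⟨q, hq, rfl⟩, he⟩

theorem exp_eq {a b k m : ℕ} (hm : Odd m) (h : 2 ^ a ∣ 2 ^ b * (2 ^ k * m)) : a ≤ b + k := by
  rw [← mul_assoc, ← pow_add] at h
  exact (Nat.pow_dvd_pow_iff_le_right (by norm_num)).mp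
    ((Nat.Coprime.pow_left a (Nat.coprime_two_left.mpr hm)).dvd_of_dvd_mul_right h)

/-- The transport from `Co₁` determined by a lattice automorphism. -/
noncomputable def Data.phi (D : Data z Q) (g₀ : ↥Co0) : Spor.Co1 ≃* Cz z ⧸ Q :=
  (MulAut.conj (QuotientGroup.mk g₀ : Spor.Co1)).trans D.e.symm

namespace Data

variable (D : Data z Q) {g : G} {a : Q}
include D

theorem qc_le (ha : g * z * g⁻¹ = ((a : Cz z) : G)) : Qc Q g ≤ Subgroup.centralizer ({(a : Cz z)} : Set (Cz z)) := by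
  intro x hx
  obtain ⟨q, -, hq⟩ := mem_Qc.mp hx
  refine Subgroup.mem_centralizer_singleton_iff.mpr (Subtype.ext ?_)
  rw [Subgroup.coe_mul, Subgroup.coe_mul, ← hq, ← ha]
  have h : (q : G) * z = z * (q : G) := Subgroup.mem_centralizer_singleton_iff.mp q.2
  calc g * (q : G) * g⁻¹ * (g * z * g⁻¹) = g * ((q : G) * z) * g⁻¹ := by group
    _ = g * (z * (q : G)) * g⁻¹ := by rw [h]
    _ = g * z * g⁻¹ * (g * (q : G) * g⁻¹) := by group

theorem conj_mem_cz (ha : g * z * g⁻¹ = ((a : Cz z) : G)) {x : Cz z}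
    (hx : x ∈ Subgroup.centralizer ({(a : Cz z)} : Set (Cz z))) : g⁻¹ * (x : G) * g ∈ Cz z := by
  refine Subgroup.mem_centralizer_singleton_iff.mpr ?_
  have h : (x : G) * ((a : Cz z) : G) = ((a : Cz z) : G) * (x : G) :=
    congrArg Subtype.val (Subgroup.mem_centralizer_singleton_iff.mp hx)
  rw [← ha] at h
  calc g⁻¹ * (x : G) * g * z = g⁻¹ * ((x : G) * (g * z * g⁻¹)) * g := by group
    _ = g⁻¹ * (g * z * g⁻¹ * (x : G)) * g := by rw [h]
    _ = z * (g⁻¹ * (x : G) * g) := by group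

/-- `Q` meets its conjugate in an elementary abelian group. -/
theorem qc_comm_sq (ha : g * z * g⁻¹ = ((a : Cz z) : G)) (hne : ((a : Cz z) : G) ≠ z) :
    ∀ x y : Q, (x : Cz z) ∈ Qc Q g → (y : Cz z) ∈ Qc Q g → x * y = y * x ∧ x * x = 1 := by
  intro x y hx hy
  obtain ⟨qx, hqx, ex⟩ := mem_Qc.mp hx
  obtain ⟨qy, hqy, ey⟩ := mem_Qc.mp hy
  have split : ∀ w w' : Q, (w = 1 ∨ w = D.zq) → (w' = 1 ∨ w' = D.zq) →
      g * ((w' : Cz z) : G) * g⁻¹ = ((w : Cz z) : G) → w = 1 := by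
    intro w w' hw hw' he
    rcases hw with rfl | rfl
    · rfl
    · exfalso
      rcases hw' with rfl | rfl
      · have : z = 1 := by simpa [D.coe_zq] using he.symm
        have h2 := D.set'.1
        rw [this, orderOf_one] at h2
        norm_num at h2
      · rw [D.coe_zq, ha] at he
        exact hne he
  refine ⟨?_, ?_⟩
  · have := split ⁅x, y⁆ ⁅(⟨qx, hqx⟩ : Q), ⟨qy, hqy⟩⁆ (D.ext2.comm_cases _ _) (D.ext2.comm_cases _ _) (by
      simp only [commutatorElement_def, Subgroup.coe_mul, Subgroup.coe_inv]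
      rw [← ex, ← ey]; group)
    exact commutatorElement_eq_one_iff_mul_comm.mp this
  · exact split (x * x) (⟨qx, hqx⟩ * ⟨qx, hqx⟩) (D.ext2.sq _) (D.ext2.sq _) (by
      simp only [Subgroup.coe_mul]
      rw [← ex]; group)

theorem qc_elem (ha : g * z * g⁻¹ = ((a : Cz z) : G)) (hne : ((a : Cz z) : G) ≠ z) :
    Cfsg.IsElementaryAbelian 2 ((Qc Q g).subgroupOf Q) :=
  ⟨⟨⟨fun x y => Subtype.ext (D.qc_comm_sq ha hne x.1 y.1 x.2 y.2).1⟩⟩,
    fun x hx => by rw [pow_two]; exact (D.qc_comm_sq ha hne x x hx hx).2⟩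

theorem card_inf_le (ha : g * z * g⁻¹ = ((a : Cz z) : G)) (hne : ((a : Cz z) : G) ≠ z) :
    Nat.card ↥(Q ⊓ Qc Q g) ≤ 2 ^ 13 := by
  have key := D.qc_comm_sq ha hne
  have h := card_elementary_le D.ext2 D.card_Q (A := (Qc Q g).subgroupOf Q)
    ⟨⟨fun x y => Subtype.ext (key x.1 y.1 x.2 y.2).1⟩⟩ (fun x hx => by rw [pow_two]; exact (key x x hx hx).2)
  rw [inf_comm, ← Subgroup.subgroupOf_map_subtype, Subgroup.card_map_of_injective Q.subtype_injective]
  exact h.1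

theorem card_dvd (ha : g * z * g⁻¹ = ((a : Cz z) : G)) :
    Nat.card ↥(Subgroup.centralizer ({(a : Cz z)} : Set (Cz z))) ∣
      Nat.card ↥(Qc Q g) * 4157776806543360000 := by
  set X := Subgroup.centralizer ({(a : Cz z)} : Set (Cz z))
  let φ : ↥X →* Cz z :=
    MonoidHom.mk' (fun x => ⟨g⁻¹ * ((x : Cz z) : G) * g, D.conj_mem_cz ha x.2⟩) fun x y => Subtype.ext (by
      simp only [Subgroup.coe_mul]; group)
  have hφ : Function.Injective φ := fun x y h => by
    have h' : g⁻¹ * ((x : Cz z) : G) * g = g⁻¹ * ((y : Cz z) : G) * g := congrArg Subtype.val h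
    exact Subtype.ext (Subtype.ext (mul_left_cancel (mul_right_cancel h')))
  have hcard : Nat.card ↥φ.range = Nat.card ↥X := Nat.card_congr (MonoidHom.ofInjective hφ).toEquiv.symm
  have hinf : Nat.card ↥(φ.range ⊓ Q) = Nat.card ↥(Qc Q g) := by
    refine Nat.card_congr
      { toFun := fun y => ⟨⟨g * ((y : Cz z) : G) * g⁻¹, ?_⟩, ?_⟩
        invFun := fun x => ⟨⟨g⁻¹ * ((x : Cz z) : G) * g, D.conj_mem_cz ha (D.qc_le ha x.2)⟩, ?_⟩
        left_inv := fun y => Subtype.ext (Subtype.ext (by simp [mul_assoc]))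
        right_inv := fun x => Subtype.ext (Subtype.ext (by simp [mul_assoc])) }
    · obtain ⟨x, hx⟩ := y.2.1
      have hx' : g⁻¹ * ((x : Cz z) : G) * g = ((y : Cz z) : G) := congrArg Subtype.val hx
      rw [show g * ((y : Cz z) : G) * g⁻¹ = ((x : Cz z) : G) by rw [← hx']; group]
      exact (x : Cz z).2
    · exact mem_Qc.mpr ⟨(y : Cz z), y.2.2, rfl⟩
    · obtain ⟨q, hq, hqe⟩ := mem_Qc.mp x.2
      refine ⟨⟨⟨x.1, D.qc_le ha x.2⟩, rfl⟩, ?_⟩
      have e : (⟨g⁻¹ * ((x : Cz z) : G) * g, D.conj_mem_cz ha (D.qc_le ha x.2)⟩ : Cz z) = q :=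
        Subtype.ext (by show g⁻¹ * ((x : Cz z) : G) * g = (q : G); rw [← hqe]; group)
      rw [e]; exact hq
  rw [← hcard, ← card_map_mk_mul Q φ.range, hinf, mul_comm]
  exact Nat.mul_dvd_mul_left _ (D.card_map_mk_dvd _)

theorem qc_normal (ha : g * z * g⁻¹ = ((a : Cz z) : G)) {x y : Cz z}
    (hx : x ∈ Subgroup.centralizer ({(a : Cz z)} : Set (Cz z))) (hy : y ∈ Qc Q g) : x * y * x⁻¹ ∈ Qc Q g := by
  obtain ⟨q, hq, hqe⟩ := mem_Qc.mp hy
  refine mem_Qc.mpr ⟨⟨_, D.conj_mem_cz ha hx⟩ * q * ⟨_, D.conj_mem_cz ha hx⟩⁻¹,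
    (inferInstance : Q.Normal).conj_mem q hq _, ?_⟩
  simp only [Subgroup.coe_mul, Subgroup.coe_inv, ← hqe]
  group

theorem two_group_qc : IsPGroup 2 ↥(Qc Q g) :=
  (((D.ext2.isPGroup).map (Cz z).subtype).map (MulAut.conj g).toMonoidHom).comap_of_injective _
    (Cz z).subtype_injective

theorem card_phi_map (g₀ : ↥Co0) (N : Subgroup Spor.Co1) :
    Nat.card ↥(N.map (D.phi g₀).toMonoidHom) = Nat.card ↥N :=
  Subgroup.card_map_of_injective (D.phi g₀).injective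

theorem map_phi {a : Q} {g₀ : ↥Co0} {u v : ↥leechLattice} (h : D.ψ v = QuotientGroup.mk a)
    (hc : a ∉ Subgroup.center ↥Q) (hv : g₀ • u = v) :
    (Subgroup.centralizer ({(a : Cz z)} : Set (Cz z))).map (QuotientGroup.mk' Q) =
      (modImg u).map (D.phi g₀).toMonoidHom := by
  rw [D.map_centralizer h hc, ← hv, modImg_smul]
  ext y
  rw [Subgroup.mem_comap, Subgroup.mem_map_equiv, Subgroup.mem_map_equiv]
  rfl

theorem image_core (ha : g * z * g⁻¹ = ((a : Cz z) : G)) {g₀ : ↥Co0} {u v : ↥leechLattice}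
    (h : D.ψ v = QuotientGroup.mk a) (hc : a ∉ Subgroup.center ↥Q) (hv : g₀ • u = v) :
    ∃ N : Subgroup Spor.Co1, (Qc Q g).map (QuotientGroup.mk' Q) = N.map (D.phi g₀).toMonoidHom ∧
      N ≤ modImg u ∧ IsPGroup 2 ↥N ∧ ∀ x ∈ modImg u, ∀ y ∈ N, x * y * x⁻¹ ∈ N := by
  set φ := D.phi g₀
  have hX := D.map_phi h hc hv
  refine ⟨((Qc Q g).map (QuotientGroup.mk' Q)).comap φ.toMonoidHom,
    (Subgroup.map_comap_eq_self_of_surjective (f := φ.toMonoidHom) φ.surjective _).symm, ?_, ?_, ?_⟩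
  · intro y hy
    have := Subgroup.map_mono (f := QuotientGroup.mk' Q) (D.qc_le ha) hy
    rw [hX] at this
    exact (Subgroup.mem_map_iff_mem φ.injective).mp this
  · exact ((D.two_group_qc).map _).comap_of_injective _ φ.injective
  · intro x hx y hy
    have hx' : φ.toMonoidHom x ∈ (Subgroup.centralizer ({(a : Cz z)} : Set (Cz z))).map (QuotientGroup.mk' Q) := by
      rw [hX]; exact Subgroup.mem_map_of_mem _ hx
    obtain ⟨x', hx'm, hxe⟩ := hx'
    obtain ⟨y', hy'm, hye⟩ := hy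
    refine ⟨x' * y' * x'⁻¹, D.qc_normal ha hx'm hy'm, ?_⟩
    rw [map_mul, map_mul, map_inv, hxe, hye, map_mul, map_mul, map_inv]

/-- The main computation. -/
theorem main (ha : g * z * g⁻¹ = ((a : Cz z) : G)) (hne : ((a : Cz z) : G) ≠ z) :
    a ∉ Subgroup.center ↥Q ∧ ∃ (v : ↥leechLattice) (g₀ : ↥Co0), D.ψ v = QuotientGroup.mk a ∧
      sqNorm (v : GolayPt → ℤ) = 64 ∧ g₀ • ax none = v ∧ Nat.card ↥(Q ⊓ Qc Q g) = 2 ^ 13 ∧
      (Qc Q g).map (QuotientGroup.mk' Q) = signImg.map (D.phi g₀).toMonoidHom := by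
  have hs2 : orderOf ((a : Cz z) : G) = 2 := by
    rw [← ha, ← D.set'.1]
    exact orderOf_injective (MulAut.conj g).toMonoidHom (MulAut.conj g).injective z
  have haa : a * a = 1 := by
    refine Subtype.ext (Subtype.ext ?_)
    show ((a : Cz z) : G) * ((a : Cz z) : G) = 1
    rw [← pow_two, ← hs2, pow_orderOf_eq_one]
  have hc : a ∉ Subgroup.center ↥Q := by
    rw [D.ext2.center_iff]
    rintro (rfl | rfl)
    · simp at hs2
    · exact hne D.coe_zq
  refine ⟨hc, ?_⟩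
  obtain ⟨v, hv, hn⟩ := D.exists_shell haa hc
  have hX := D.card_centralizer hv hc
  have hdvd := D.card_dvd ha
  have hD := D.card_inf_le ha hne
  have hsplit := card_map_mk_mul Q (Qc Q g)
  rw [inf_comm] at hsplit
  obtain ⟨d, hd⟩ := (D.two_group_qc.to_le (inf_le_right : Q ⊓ Qc Q g ≤ Qc Q g)).exists_card_eq
  rw [hd] at hD hsplit
  have hd13 : d ≤ 13 := (Nat.pow_le_pow_iff_right (by norm_num)).mp hD
  have hco1 : (4157776806543360000 : ℕ) = 2 ^ 21 * 1982582476875 := by norm_num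
  rcases hn with hn | hn
  · exfalso
    obtain ⟨g₀, hg₀⟩ := shell_transitive (fun _ h h' => eqv32 h h') vS v vStd_norm hn
    obtain ⟨N, hN, hle, hN2, hnorm⟩ := D.image_core ha hv hc hg₀
    rw [modImg_vS_two hle hN2 hnorm, Subgroup.map_bot] at hN
    rw [hN, Subgroup.card_bot, one_mul] at hsplit
    rw [← hg₀, modImg_smul, Subgroup.card_map_of_injective
      (MulAut.conj (QuotientGroup.mk g₀ : Spor.Co1)).injective, modImg_vS_card] at hX
    rw [hX, ← hsplit, hco1] at hdvd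
    have h1 : 2 ^ 42 ∣ 42305421312000 * 2 ^ 24 := ⟨161382375 * 1, by norm_num⟩
    have := exp_eq (by decide) (h1.trans hdvd)
    omega
  · obtain ⟨g₀, hg₀⟩ := shell_transitive (fun _ h h' => eqv64 h h') (ax none) v
      (eightSet_props (mem_eightSet.mpr ⟨none, 8, Or.inl rfl, rfl⟩)).2 hn
    obtain ⟨N, hN, hle, hN2, hnorm⟩ := D.image_core ha hv hc hg₀
    haveI := co0_finite
    haveI : Finite Spor.Co1 := Finite.of_surjective _ QuotientGroup.mk_surjective
    obtain ⟨n, hn2⟩ := hN2.exists_card_eq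
    have hNS : N ≤ signImg := modImg_ax_two hle hN2 hnorm
    have hn11 : n ≤ 11 := by
      refine (Nat.pow_le_pow_iff_right (show 1 < 2 by norm_num)).mp ?_
      rw [← hn2, ← signImg_card]; exact Subgroup.card_le_of_le hNS
    rw [hN, D.card_phi_map, hn2, ← pow_add] at hsplit
    rw [← hg₀, modImg_smul, Subgroup.card_map_of_injective
      (MulAut.conj (QuotientGroup.mk g₀ : Spor.Co1)).injective, modImg_ax_card] at hX
    rw [hX, ← hsplit, hco1] at hdvd
    have h1 : 2 ^ 45 ∣ 2 ^ 11 * 244823040 * 2 ^ 24 := ⟨239085, by norm_num⟩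
    have := exp_eq (by decide) (h1.trans hdvd)
    refine ⟨v, g₀, hv, hn, hg₀, by rw [hd, show d = 13 by omega], ?_⟩
    rw [hN, Subgroup.eq_of_le_of_card_ge hNS (by rw [signImg_card, hn2, show n = 11 by omega])]

end Data

end CfsgLib.MonsterQ
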