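/-
Groups of Monster type: the two classes of involutions of `Q`.
-/
import Cfsg.Agent.Lib.MonsterQ.Pair

set_option autoImplicit false

namespace CfsgLib.MonsterQ

open Cfsg CfsgLeech

variable {G : Type*} [Group G] [Finite G] {z : G} {Q : Subgroup (Subgroup.centralizer ({z} : Set G))} [Q.Normal]

theorem exists_elt {s : G} (h : ∃ hsc : s ∈ Cz z, (⟨s, hsc⟩ : Cz z) ∈ Q) :
    ∃ a : Q, ((a : Cz z) : G) = s := by
  obtain ⟨hsc, hm⟩ := h
  exact ⟨⟨⟨s, hsc⟩, hm⟩, rfl⟩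

namespace Data

variable (D : Data z Q)
include D

theorem exists_conj : ∃ (g : G) (a : Q), g * z * g⁻¹ = ((a : Cz z) : G) ∧ ((a : Cz z) : G) ≠ z := by
  obtain ⟨g, hq, hne⟩ := D.set'.2.2.2.2
  obtain ⟨a, ha⟩ := exists_elt hq
  exact ⟨g, a, ha.symm, by rwa [ha]⟩

theorem norm_of_conj {a : Q} (hc : IsConj z ((a : Cz z) : G)) (hne : ((a : Cz z) : G) ≠ z) :
    ∃ v : ↥leechLattice, sqNorm (v : GolayPt → ℤ) = 64 ∧ D.ψ v = QuotientGroup.mk a := by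
  obtain ⟨g, hg⟩ := isConj_iff.mp hc
  obtain ⟨-, v, g₀, hv, hn, -⟩ := D.main hg hne
  exact ⟨v, hn, hv⟩

theorem conj_of_norm64 {a : Q} {v : ↥leechLattice} (hn : sqNorm (v : GolayPt → ℤ) = 64)
    (hv : D.ψ v = QuotientGroup.mk a) : IsConj z ((a : Cz z) : G) ∧ ((a : Cz z) : G) ≠ z := by
  obtain ⟨g, b, hb, hne⟩ := D.exists_conj
  obtain ⟨-, w, g₀, hw, hwn, -⟩ := D.main hb hne
  obtain ⟨h, hh⟩ := D.conj_of_norm hw hv (hwn.trans hn.symm) (Or.inr hwn)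
  have e : (h : G) * ((b : Cz z) : G) * (h : G)⁻¹ = ((a : Cz z) : G) := congrArg Subtype.val hh
  refine ⟨isConj_iff.mpr ⟨(h : G) * g, ?_⟩, ?_⟩
  · rw [← e, ← hb]; group
  · intro he
    refine D.not_center hv (ne_zero_of_norm hn (by norm_num)) (by rw [hn]) ?_
    rw [D.ext2.center_iff]
    exact Or.inr (Subtype.ext (Subtype.ext he))

theorem norm32_of_not_conj {a : Q} (h2 : orderOf ((a : Cz z) : G) = 2) (hc : ¬ IsConj z ((a : Cz z) : G)) :
    ∃ v : ↥leechLattice, sqNorm (v : GolayPt → ℤ) = 32 ∧ D.ψ v = QuotientGroup.mk a := by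
  have haa : a * a = 1 := by
    refine Subtype.ext (Subtype.ext ?_)
    show ((a : Cz z) : G) * ((a : Cz z) : G) = 1
    rw [← pow_two, ← h2, pow_orderOf_eq_one]
  have hnc : a ∉ Subgroup.center ↥Q := by
    rw [D.ext2.center_iff]
    rintro (rfl | rfl)
    · simp at h2
    · exact hc (by rw [D.coe_zq])
  obtain ⟨v, hv, hn | hn⟩ := D.exists_shell haa hnc
  · exact ⟨v, hn, hv⟩
  · exact absurd (D.conj_of_norm64 hn hv).1 hc

theorem exists_conjugator {a b : Q} {v w : ↥leechLattice} (ha : D.ψ v = QuotientGroup.mk a)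
    (hb : D.ψ w = QuotientGroup.mk b) (hvw : sqNorm (v : GolayPt → ℤ) = sqNorm (w : GolayPt → ℤ))
    (hn : sqNorm (v : GolayPt → ℤ) = 32 ∨ sqNorm (v : GolayPt → ℤ) = 64) :
    ∃ h ∈ Cz z, h * ((a : Cz z) : G) * h⁻¹ = ((b : Cz z) : G) := by
  obtain ⟨h, hh⟩ := D.conj_of_norm ha hb hvw hn
  exact ⟨h, h.2, congrArg Subtype.val hh⟩

end Data

end CfsgLib.MonsterQ
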