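/-
Groups of Monster type: the intersection of `Q` with its conjugate meets the class of norm 32,
so the centraliser of such an involution moves `z` inside `Q`.
-/
import Cfsg.Agent.Lib.MonsterQ.Main
import Cfsg.Agent.Lib.Leech.FrameInvariant

set_option autoImplicit false

namespace CfsgLib.MonsterQ

open Cfsg CfsgLeech
open scoped Pointwise

variable {G : Type*} [Group G] [Finite G] {z : G} {Q : Subgroup (Subgroup.centralizer ({z} : Set G))} [Q.Normal]

namespace Data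

variable (D : Data z Q) {g : G} {a : Q}
include D

theorem zq_mem_Q : zc z ∈ Q := D.zc_mem

theorem self_mem_qc (ha : g * z * g⁻¹ = ((a : Cz z) : G)) : (a : Cz z) ∈ Qc Q g :=
  mem_Qc.mpr ⟨zc z, D.zc_mem, ha⟩

/-- `Q ⊓ Qc` contains an element of the class of norm 32. -/
theorem exists_norm32_inf (ha : g * z * g⁻¹ = ((a : Cz z) : G)) (hne : ((a : Cz z) : G) ≠ z) :
    ∃ (q : Q) (v : ↥leechLattice), (q : Cz z) ∈ Qc Q g ∧ D.ψ v = QuotientGroup.mk q ∧
      sqNorm (v : GolayPt → ℤ) = 32 := by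
  obtain ⟨hc, v₀, g₀, hv₀, hn₀, hg₀, hcard, -⟩ := D.main ha hne
  let W : Set ↥leechLattice := {u | ∃ q : Q, (q : Cz z) ∈ Qc Q g ∧ D.ψ (g₀ • u) = QuotientGroup.mk q}
  have hW : FrameClosed W := by
    refine ⟨?_, ?_, ?_, ⟨a, D.self_mem_qc ha, by rw [hg₀]; exact hv₀⟩⟩
    · rintro x ⟨q, hq, e⟩ y ⟨q', hq', e'⟩
      exact ⟨q * q', (Qc Q g).mul_mem hq hq', by rw [aut_add, D.psi_add, e, e', QuotientGroup.mk_mul]⟩
    · rintro x y hxy ⟨q, hq, e⟩
      exact ⟨q, hq, (D.psi_cg.mpr (Cg.map' g₀ hxy.symm')).trans e⟩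
    · rintro m hm x ⟨q, hq, e⟩
      have hmem : (D.phi g₀) (QuotientGroup.mk m) ∈
          (Subgroup.centralizer ({(a : Cz z)} : Set (Cz z))).map (QuotientGroup.mk' Q) := by
        rw [D.map_phi hv₀ hc hg₀]
        exact Subgroup.mem_map_of_mem _ (mem_modImg.2 hm)
      obtain ⟨k, hk, hke⟩ := hmem
      have hk' : (QuotientGroup.mk (g₀ * m * g₀⁻¹) : Spor.Co1) = D.e (QuotientGroup.mk k) := by
        rw [show (QuotientGroup.mk k : Cz z ⧸ Q) = D.phi g₀ (QuotientGroup.mk m) from hke]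
        simp [phi, MulAut.conj_apply]
      have h1 := D.iso.2.2.2 k (g₀ * m * g₀⁻¹) hk' (g₀ • x) q e
      rw [mul_smul, inv_smul_smul, mul_smul] at h1
      exact ⟨_, D.qc_normal ha hk hq, h1⟩
  have hex : ∃ x ∈ W, ¬ Cg x 0 ∧ ¬ Cg x (ax none) := by
    by_contra hall
    push Not at hall
    classical
    let S : Finset ↥Q := {1, D.zq, a, a * D.zq}
    have hle : ∀ q : ↥((Qc Q g).subgroupOf Q), (q : ↥Q) ∈ S := by
      rintro ⟨q, hq⟩
      obtain ⟨v, hv⟩ := D.iso.2.1 (QuotientGroup.mk q)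
      have hx : g₀⁻¹ • v ∈ W := ⟨q, hq, by rw [smul_inv_smul]; exact hv⟩
      by_cases h0 : Cg (g₀⁻¹ • v) 0
      · have h1 := D.psi_cg.mpr (Cg.map' g₀ h0)
        rw [smul_inv_smul, hv, show g₀ • (0 : ↥leechLattice) = 0 from map_zero (autHom g₀), D.psi_zero] at h1
        rcases (D.ext2.center_iff q).mp ((QuotientGroup.eq_one_iff q).mp h1) with rfl | rfl <;> simp [S]
      · have h1 := D.psi_cg.mpr (Cg.map' g₀ (hall _ hx h0))
        rw [smul_inv_smul, hg₀, hv, hv₀] at h1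
        rcases D.mk_eq_mk.mp h1.symm with rfl | rfl <;> simp [S]
    have hc1 : Nat.card ↥((Qc Q g).subgroupOf Q) ≤ Nat.card ↥S :=
      Nat.card_le_card_of_injective (fun q => (⟨q.1, hle q⟩ : ↥S)) fun p q h =>
        Subtype.ext (congrArg (fun s : ↥S => (s : ↥Q)) h)
    have hc2 : Nat.card ↥S ≤ 4 := by rw [Nat.card_eq_finsetCard]; exact Finset.card_le_four
    have hc3 : Nat.card ↥((Qc Q g).subgroupOf Q) = 2 ^ 13 := by
      rw [← hcard, inf_comm, ← Subgroup.subgroupOf_map_subtype, Subgroup.card_map_of_injective Q.subtype_injective]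
    norm_num at hc3
    omega
  obtain ⟨w, ⟨q, hq, e⟩, hw⟩ := hW.exists_norm32 hex
  exact ⟨q, g₀ • w, hq, e, (aut_norm _ _).trans hw⟩

theorem not_conj_of_norm32 {q : Q} {v : ↥leechLattice} (hv : D.ψ v = QuotientGroup.mk q)
    (hn : sqNorm (v : GolayPt → ℤ) = 32) :
    orderOf ((q : Cz z) : G) = 2 ∧ ¬ IsConj z ((q : Cz z) : G) := by
  have hc := D.not_center hv (ne_zero_of_norm hn (by norm_num)) (by rw [hn]; norm_num)
  have hne : ((q : Cz z) : G) ≠ z := fun he =>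
    hc ((D.ext2.center_iff q).mpr (Or.inr (Subtype.ext (Subtype.ext he))))
  refine ⟨orderOf_eq_prime ?_ ?_, fun h => ?_⟩
  · have h2 := (D.sq_iff hv).mpr (by rw [hn])
    rw [pow_two]
    exact congrArg (fun x : Q => ((x : Cz z) : G)) h2
  · intro h1
    exact hc (by rw [show q = 1 from Subtype.ext (Subtype.ext h1)]; exact one_mem _)
  · obtain ⟨w, hw, he⟩ := D.norm_of_conj h hne
    have := D.norm_unique (hv.trans he.symm) (by rw [hn]; norm_num) (by rw [hw])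
    omega

/-- The centraliser of a non-conjugate involution moves `z` inside `Q`. -/
theorem exists_move {t : Q} (ht2 : orderOf ((t : Cz z) : G) = 2) (ht : ¬ IsConj z ((t : Cz z) : G)) :
    ∃ (h : G) (b : Q), h * ((t : Cz z) : G) * h⁻¹ = ((t : Cz z) : G) ∧ h * z * h⁻¹ = ((b : Cz z) : G) ∧
      ((b : Cz z) : G) ≠ z ∧ b * t = t * b := by
  obtain ⟨g, a, ha, hne⟩ := D.exists_conj
  obtain ⟨q, v, hq, hv, hn⟩ := D.exists_norm32_inf ha hne
  obtain ⟨p, hp, hpe⟩ := mem_Qc.mp hq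
  obtain ⟨hq2, hqc⟩ := D.not_conj_of_norm32 hv hn
  obtain ⟨w, hw, hwt⟩ := D.norm32_of_not_conj ht2 ht
  obtain ⟨c, hc, hce⟩ := D.exists_conjugator hv hwt (hn.trans hw.symm) (Or.inl hn)
  have hp2 : orderOf (p : G) = 2 := by
    rw [← hq2, ← hpe]
    exact (orderOf_injective (MulAut.conj g).toMonoidHom (MulAut.conj g).injective _).symm
  have hpc : ¬ IsConj z ((p : Cz z) : G) := fun h => hqc (h.trans (isConj_iff.mpr ⟨g, hpe⟩))
  obtain ⟨u, hu, hup⟩ := D.norm32_of_not_conj (a := ⟨p, hp⟩) hp2 hpc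
  obtain ⟨d, hd, hde⟩ := D.exists_conjugator hwt hup (hw.trans hu.symm) (Or.inl hw)
  have hde' : d * ((t : Cz z) : G) * d⁻¹ = (p : G) := hde
  have hdz : d * z = z * d := Subgroup.mem_centralizer_singleton_iff.mp hd
  refine ⟨c * g * d, ⟨⟨c, hc⟩ * (a : Cz z) * ⟨c, hc⟩⁻¹, (inferInstance : Q.Normal).conj_mem _ a.2 _⟩, ?_, ?_, ?_, ?_⟩
  · calc c * g * d * ((t : Cz z) : G) * (c * g * d)⁻¹ = c * (g * (d * ((t : Cz z) : G) * d⁻¹) * g⁻¹) * c⁻¹ := by group
      _ = ((t : Cz z) : G) := by rw [hde', hpe, hce]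
  · show c * g * d * z * (c * g * d)⁻¹ = c * ((a : Cz z) : G) * c⁻¹
    calc c * g * d * z * (c * g * d)⁻¹ = c * (g * (d * z * d⁻¹) * g⁻¹) * c⁻¹ := by group
      _ = _ := by rw [hdz, mul_inv_cancel_right, ha]
  · show c * ((a : Cz z) : G) * c⁻¹ ≠ z
    intro he
    refine hne ?_
    have hcz : c * z = z * c := Subgroup.mem_centralizer_singleton_iff.mp hc
    exact mul_left_cancel ((mul_inv_eq_iff_eq_mul.mp he).trans hcz.symm)
  · have h1 := (D.qc_comm_sq ha hne a q (D.self_mem_qc ha) hq).1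
    have h2 : ((a : Cz z) : G) * ((q : Cz z) : G) = ((q : Cz z) : G) * ((a : Cz z) : G) :=
      congrArg (fun x : Q => ((x : Cz z) : G)) h1
    refine Subtype.ext (Subtype.ext ?_)
    show c * ((a : Cz z) : G) * c⁻¹ * ((t : Cz z) : G) = ((t : Cz z) : G) * (c * ((a : Cz z) : G) * c⁻¹)
    rw [← hce]
    calc c * ((a : Cz z) : G) * c⁻¹ * (c * ((q : Cz z) : G) * c⁻¹)
        = c * (((a : Cz z) : G) * ((q : Cz z) : G)) * c⁻¹ := by group
      _ = c * (((q : Cz z) : G) * ((a : Cz z) : G)) * c⁻¹ := by rw [h2]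
      _ = _ := by group

end Data

end CfsgLib.MonsterQ
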