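/-
Groups of Monster type: the centraliser of an involution of the class of norm 32, modulo that involution.
-/
import Cfsg.Agent.Lib.MonsterQ.Fix
import Cfsg.Agent.Lib.Leech.CoTwoMod
import Cfsg.Agent.Lib.Comp.Layer
import Cfsg.Agent.Lib.LargeExtra.Odd

set_option autoImplicit false

namespace CfsgLib.MonsterQ

open Cfsg CfsgLeech CfsgLib.ExtraTwo
open scoped Pointwise commutatorElement

variable {G : Type*} [Group G] [Finite G] {z : G} {Q : Subgroup (Subgroup.centralizer ({z} : Set G))} [Q.Normal]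

/-- The short involution with its vector. -/
structure Short (D : Data z Q) where
  t : Q
  two : orderOf ((t : Cz z) : G) = 2
  notconj : ¬ IsConj z ((t : Cz z) : G)
  g₀ : ↥Co0
  vec : D.ψ (g₀ • Spor.leechU) = QuotientGroup.mk t

variable {D : Data z Q}

omit [Finite G] [Q.Normal] in
theorem center_conj {A : Type*} [Group A] (R : Subgroup A) [hR : R.Normal] (c : A) {x y x' y' : ↥R}
    (hx : (x' : A) = c * (x : A) * c⁻¹) (hy : (y' : A) = c * (y : A) * c⁻¹)
    (h : x⁻¹ * y ∈ Subgroup.center ↥R) : x'⁻¹ * y' ∈ Subgroup.center ↥R := by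
  refine Subgroup.mem_center_iff.mpr fun r => Subtype.ext ?_
  have hm : c⁻¹ * (r : A) * c ∈ R := by simpa using hR.conj_mem r r.2 c⁻¹
  have h1 : c⁻¹ * (r : A) * c * ((x : A)⁻¹ * (y : A)) = (x : A)⁻¹ * (y : A) * (c⁻¹ * (r : A) * c) :=
    congrArg Subtype.val (Subgroup.mem_center_iff.mp h ⟨_, hm⟩)
  simp only [Subgroup.coe_mul, Subgroup.coe_inv, hx, hy]
  calc (r : A) * ((c * (x : A) * c⁻¹)⁻¹ * (c * (y : A) * c⁻¹)) = c * (c⁻¹ * (r : A) * c * ((x : A)⁻¹ * (y : A))) * c⁻¹ := by group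
    _ = _ := by rw [h1]; group

theorem exists_short (D : Data z Q) {t : Q} (h2 : orderOf ((t : Cz z) : G) = 2)
    (hc : ¬ IsConj z ((t : Cz z) : G)) : ∃ S : Short D, S.t = t := by
  obtain ⟨v, hn, hv⟩ := D.norm32_of_not_conj h2 hc
  obtain ⟨g₀, hg₀⟩ := shell_transitive (fun _ h h' => eqv32 h h') Spor.leechU v leechU_norm32 hn
  exact ⟨⟨t, h2, hc, g₀, by rw [hg₀]; exact hv⟩, rfl⟩

namespace Short

variable (S : Short D)

theorem u_norm : sqNorm ((S.g₀ • Spor.leechU : ↥leechLattice) : GolayPt → ℤ) = 32 :=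
  (aut_norm _ _).trans leechU_norm32

theorem nc : S.t ∉ Subgroup.center ↥Q :=
  D.not_center S.vec (Data.ne_zero_of_norm (S.u_norm) (by norm_num)) (by rw [S.u_norm]; norm_num)

theorem tt : S.t * S.t = 1 := (D.sq_iff S.vec).mpr (by rw [S.u_norm])

theorem ne_z : ((S.t : Cz z) : G) ≠ z := fun h => S.notconj (by rw [h])

/-- The element in the group. -/
abbrev el : G := ((S.t : Cz z) : G)

/-- The centraliser in the group. -/
abbrev H : Subgroup G := Subgroup.centralizer ({S.el} : Set G)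

/-- The group generated by the involution, inside its centraliser. -/
abbrev N : Subgroup ↥S.H := (Subgroup.zpowers S.el).subgroupOf S.H

theorem mem_zp {x : G} : x ∈ Subgroup.zpowers S.el ↔ x = 1 ∨ x = S.el := by
  constructor
  · rintro ⟨k, rfl⟩
    show S.el ^ k = 1 ∨ S.el ^ k = S.el
    rcases Int.even_or_odd' k with ⟨m, rfl | rfl⟩
    · left; rw [zpow_mul, zpow_two, show S.el * S.el = 1 by rw [← pow_two, ← S.two, pow_orderOf_eq_one], one_zpow]
    · right; rw [zpow_add, zpow_mul, zpow_two, show S.el * S.el = 1 by rw [← pow_two, ← S.two, pow_orderOf_eq_one], one_zpow, one_mul, zpow_one]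
  · rintro (rfl | rfl)
    · exact one_mem _
    · exact Subgroup.mem_zpowers _

theorem z_mem : z ∈ S.H := Subgroup.mem_centralizer_singleton_iff.mpr
  (Subgroup.mem_centralizer_singleton_iff.mp (S.t : Cz z).2).symm

/-- The centraliser inside `C`. -/
abbrev CD : Subgroup (Cz z) := Subgroup.centralizer ({(S.t : Cz z)} : Set (Cz z))

theorem cd_mem (d : ↥S.CD) : ((d : Cz z) : G) ∈ S.H :=
  Subgroup.mem_centralizer_singleton_iff.mpr
    (congrArg (fun x : Cz z => (x : G)) (Subgroup.mem_centralizer_singleton_iff.mp d.2))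

variable [S.N.Normal]

/-- The quotient group. -/
abbrev Gb : Type _ := ↥S.H ⧸ S.N

/-- The image of `z`. -/
def zb : S.Gb := QuotientGroup.mk ⟨z, S.z_mem⟩

theorem mk_eq_mk {x y : ↥S.H} : (QuotientGroup.mk x : S.Gb) = QuotientGroup.mk y ↔
    (y : G) = x ∨ (y : G) = (x : G) * S.el := by
  rw [QuotientGroup.eq, Subgroup.mem_subgroupOf, S.mem_zp, Subgroup.coe_mul, Subgroup.coe_inv, inv_mul_eq_one,
    inv_mul_eq_iff_eq_mul, eq_comm]

theorem zb_order : orderOf S.zb = 2 := by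
  refine orderOf_eq_prime ?_ ?_
  · show (QuotientGroup.mk (⟨z, S.z_mem⟩ ^ 2) : S.Gb) = 1
    rw [← QuotientGroup.mk_one, show (⟨z, S.z_mem⟩ : ↥S.H) ^ 2 = 1 from
      Subtype.ext (by rw [SubgroupClass.coe_pow]; show z ^ 2 = 1; rw [← D.set'.1, pow_orderOf_eq_one])]
  · intro h
    rw [zb, ← QuotientGroup.mk_one, S.mk_eq_mk] at h
    simp only [OneMemClass.coe_one] at h
    have hz1 : z ≠ 1 := fun e => by
      have := D.set'.1; rw [e, orderOf_one] at this; norm_num at this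
    rcases h with h | h
    · exact hz1 h.symm
    · exact S.ne_z (by
        calc S.el = z⁻¹ * (z * S.el) := by group
          _ = z := by
            rw [← h, mul_one]
            refine inv_eq_of_mul_eq_one_right ?_
            rw [← pow_two, ← D.set'.1, pow_orderOf_eq_one])

theorem not_conj_zt : ¬ IsConj z (z * S.el) := by
  obtain ⟨c, hc⟩ := D.conj_in_Q (a := S.t) (b := S.t * D.zq) S.nc (D.mk_eq_mk.mpr (Or.inr rfl))
  intro h
  refine S.notconj (h.trans (IsConj.symm (isConj_iff.mpr ⟨((c : Cz z) : G), ?_⟩)))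
  have := congrArg (fun x : Q => ((x : Cz z) : G)) hc
  simp only [Subgroup.coe_mul, Subgroup.coe_inv] at this
  rw [this, D.coe_zq]
  exact Subgroup.mem_centralizer_singleton_iff.mp (S.t : Cz z).2

/-- The map onto the centraliser of the image of `z`. -/
def toC : ↥S.CD →* ↥(Subgroup.centralizer ({S.zb} : Set S.Gb)) :=
  MonoidHom.mk' (fun d => ⟨QuotientGroup.mk ⟨((d : Cz z) : G), S.cd_mem d⟩, Subgroup.mem_centralizer_singleton_iff.mpr (by
      rw [zb, ← QuotientGroup.mk_mul, ← QuotientGroup.mk_mul]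
      exact congrArg QuotientGroup.mk (Subtype.ext (Subgroup.mem_centralizer_singleton_iff.mp (d : Cz z).2)))⟩)
    fun d d' => Subtype.ext (by rfl)

theorem toC_eq {d d' : ↥S.CD} : S.toC d = S.toC d' ↔
    (d' : Cz z) = (d : Cz z) ∨ (d' : Cz z) = (d : Cz z) * (S.t : Cz z) := by
  rw [Subtype.ext_iff]
  show (QuotientGroup.mk _ : S.Gb) = QuotientGroup.mk _ ↔ _
  rw [S.mk_eq_mk, Subtype.ext_iff, Subtype.ext_iff, Subgroup.coe_mul]

theorem toC_surjective : Function.Surjective S.toC := by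
  rintro ⟨y, hy⟩
  obtain ⟨x, rfl⟩ := QuotientGroup.mk_surjective y
  have h := Subgroup.mem_centralizer_singleton_iff.mp hy
  rw [zb, ← QuotientGroup.mk_mul, ← QuotientGroup.mk_mul, S.mk_eq_mk] at h
  simp only [Subgroup.coe_mul] at h
  rcases h with h | h
  · have hxz : (x : G) ∈ Cz z := Subgroup.mem_centralizer_singleton_iff.mpr h.symm
    have hxd : (⟨(x : G), hxz⟩ : Cz z) ∈ S.CD :=
      Subgroup.mem_centralizer_singleton_iff.mpr (Subtype.ext (Subgroup.mem_centralizer_singleton_iff.mp x.2))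
    exact ⟨⟨_, hxd⟩, Subtype.ext rfl⟩
  · exfalso
    have hx : (x : G) * S.el = S.el * (x : G) := Subgroup.mem_centralizer_singleton_iff.mp x.2
    have h1 : z * (x : G) = (x : G) * (z * S.el) := by rw [h, mul_assoc]
    refine S.not_conj_zt (isConj_iff.mpr ⟨(x : G)⁻¹, ?_⟩)
    calc (x : G)⁻¹ * z * (x : G)⁻¹⁻¹ = (x : G)⁻¹ * (z * (x : G)) := by group
      _ = z * S.el := by rw [h1, inv_mul_cancel_left]

/-- The image of `Q`. -/
def R : Subgroup ↥(Subgroup.centralizer ({S.zb} : Set S.Gb)) := (Q.subgroupOf S.CD).map S.toC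

instance : S.R.Normal := Subgroup.Normal.map inferInstance _ S.toC_surjective

/-- The element `zq` in the centraliser. -/
def zd : ↥S.CD := ⟨(D.zq : Cz z), Subgroup.mem_centralizer_singleton_iff.mpr
  (congrArg (fun q : Q => (q : Cz z)) ((D.ext2.z_comm S.t).eq.symm))⟩

theorem zd_mem : S.zd ∈ Q.subgroupOf S.CD := D.zq.2

/-- The element of `Q` under an element of `Q ⊓ CD`. -/
def qel (d : ↥(Q.subgroupOf S.CD)) : Q := ⟨((d : ↥S.CD) : Cz z), d.2⟩

theorem qel_comm (d : ↥(Q.subgroupOf S.CD)) : S.qel d * S.t = S.t * S.qel d :=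
  Subtype.ext (Subgroup.mem_centralizer_singleton_iff.mp (d : ↥S.CD).2)

theorem exists_qel {q : Q} (h : q * S.t = S.t * q) : ∃ d : ↥(Q.subgroupOf S.CD), S.qel d = q :=
  ⟨⟨⟨(q : Cz z), Subgroup.mem_centralizer_singleton_iff.mpr (congrArg (fun x : Q => (x : Cz z)) h)⟩, q.2⟩, rfl⟩

/-- The map of `C_Q(t)` onto `R`. -/
def toR : ↥(Q.subgroupOf S.CD) →* ↥S.R := S.toC.subgroupMap _

theorem toR_surjective : Function.Surjective S.toR := MonoidHom.subgroupMap_surjective _ _

theorem toR_eq {d d' : ↥(Q.subgroupOf S.CD)} : S.toR d = S.toR d' ↔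
    S.qel d' = S.qel d ∨ S.qel d' = S.qel d * S.t := by
  rw [Subtype.ext_iff]
  show S.toC d = S.toC d' ↔ _
  rw [S.toC_eq]
  simp only [qel, Subtype.ext_iff, Subgroup.coe_mul]

/-- The image of `z` in `R`. -/
def zr : ↥S.R := S.toR ⟨S.zd, S.zd_mem⟩

theorem toR_comm {d d' : ↥(Q.subgroupOf S.CD)} (h : Commute (S.toR d) (S.toR d')) :
    S.qel d * S.qel d' = S.qel d' * S.qel d := by
  have h1 : S.toR (d * d') = S.toR (d' * d) := by rw [map_mul, map_mul]; exact h.eq
  have h2 : S.qel (d' * d) = S.qel (d * d') ∨ S.qel (d' * d) = S.qel (d * d') * S.t := S.toR_eq.mp h1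
  rcases h2 with e | e
  · exact e.symm
  · exfalso
    change S.qel d' * S.qel d = S.qel d * S.qel d' * S.t at e
    have e3 : S.t = ⁅(S.qel d')⁻¹, (S.qel d)⁻¹⁆ := by
      rw [commutatorElement_def]
      calc S.t = (S.qel d * S.qel d')⁻¹ * (S.qel d * S.qel d' * S.t) := by group
        _ = (S.qel d * S.qel d')⁻¹ * (S.qel d' * S.qel d) := by rw [← e]
        _ = _ := by group
    rcases D.ext2.comm_cases (S.qel d')⁻¹ (S.qel d)⁻¹ with c | c
    · rw [c] at e3; exact S.nc (e3 ▸ one_mem _)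
    · rw [c] at e3; exact S.nc (e3 ▸ (D.ext2.center_iff _).mpr (Or.inr rfl))

omit [S.N.Normal] in
theorem double {q : Q} (h : ∀ x : Q, x * S.t = S.t * x → x * q = q * x) :
    q ∈ Subgroup.center ↥Q ∨ q * S.t ∈ Subgroup.center ↥Q := by
  have bt : ∀ x : Q, D.bf x S.t = 0 → D.bf x q = 0 := by
    intro x hx
    unfold Data.bf at hx ⊢
    by_cases h1 : x * S.t = S.t * x
    · rw [if_pos (h x h1)]
    · rw [if_neg h1] at hx; exact absurd hx one_ne_zero
  have hnc := S.nc
  rw [Subgroup.mem_center_iff] at hnc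
  push Not at hnc
  obtain ⟨b, hb⟩ := hnc
  have hb1 : D.bf b S.t = 1 := by unfold Data.bf; rw [if_neg hb]
  have symm : ∀ x y : Q, D.bf x y = D.bf y x := fun x y => by
    unfold Data.bf
    by_cases h1 : x * y = y * x
    · rw [if_pos h1, if_pos h1.symm]
    · rw [if_neg h1, if_neg (fun h2 => h1 h2.symm)]
  have lin : ∀ x : Q, D.bf x q = D.bf x S.t * D.bf b q := by
    intro x
    rcases (show ∀ c : ZMod 2, c = 0 ∨ c = 1 by decide) (D.bf x S.t) with hx | hx
    · rw [bt x hx, hx, zero_mul]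
    · have h0 : D.bf (x * b) S.t = 0 := by rw [D.bf_mul, hx, hb1]; decide
      have := bt _ h0
      rw [D.bf_mul] at this
      rw [hx, one_mul]
      exact (show ∀ c d : ZMod 2, c + d = 0 → c = d by decide) _ _ this
  have cen : ∀ y : Q, (∀ x, D.bf x y = 0) → y ∈ Subgroup.center ↥Q := fun y hy =>
    Subgroup.mem_center_iff.mpr fun x => by
      by_contra hxy
      have := hy x
      unfold Data.bf at this
      rw [if_neg hxy] at this
      exact one_ne_zero this
  rcases (show ∀ c : ZMod 2, c = 0 ∨ c = 1 by decide) (D.bf b q) with hc | hc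
  · exact Or.inl (cen q fun x => by rw [lin, hc, mul_zero])
  · refine Or.inr (cen _ fun x => ?_)
    rw [symm, D.bf_mul, symm q, symm S.t, lin, hc, mul_one]
    exact (show ∀ c : ZMod 2, c + c = 0 by decide) _

theorem qel_zd : S.qel ⟨S.zd, S.zd_mem⟩ = D.zq := rfl

theorem qel_one : S.qel 1 = 1 := rfl

theorem qel_mul (d d' : ↥(Q.subgroupOf S.CD)) : S.qel (d * d') = S.qel d * S.qel d' := rfl

theorem ext2R : Ext2 ↥S.R S.zr := by
  refine ⟨fun h => ?_, fun r => ⟨fun hr => ?_, ?_⟩, fun r => ?_⟩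
  · rw [zr, ← map_one S.toR, S.toR_eq, S.qel_zd, S.qel_one] at h
    rcases h with h | h
    · exact D.ext2.ne h.symm
    · exact S.nc ((D.ext2.center_iff _).mpr (Or.inr (by
        calc S.t = D.zq⁻¹ * (D.zq * S.t) := by group
          _ = D.zq := by rw [← h, mul_one, inv_eq_of_mul_eq_one_right D.ext2.zz])))
  · obtain ⟨d, rfl⟩ := S.toR_surjective r
    have hcen : ∀ x : Q, x * S.t = S.t * x → x * S.qel d = S.qel d * x := by
      intro x hx
      obtain ⟨d', rfl⟩ := S.exists_qel hx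
      exact S.toR_comm (Subgroup.mem_center_iff.mp hr (S.toR d'))
    rcases S.double hcen with h | h
    · rcases (D.ext2.center_iff _).mp h with e | e
      · left; rw [← map_one S.toR, S.toR_eq, S.qel_one]; exact Or.inl e.symm
      · right; rw [zr, S.toR_eq, S.qel_zd]; exact Or.inl e.symm
    · rcases (D.ext2.center_iff _).mp h with e | e
      · left; rw [← map_one S.toR, S.toR_eq, S.qel_one]; exact Or.inr e.symm
      · right; rw [zr, S.toR_eq, S.qel_zd]; exact Or.inr e.symm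
  · rintro (rfl | rfl)
    · exact one_mem _
    · refine Subgroup.mem_center_iff.mpr fun r => ?_
      obtain ⟨d, rfl⟩ := S.toR_surjective r
      rw [zr, ← map_mul, ← map_mul, S.toR_eq, S.qel_mul, S.qel_mul, S.qel_zd]
      exact Or.inl (D.ext2.z_comm _).eq.symm
  · obtain ⟨d, rfl⟩ := S.toR_surjective r
    rw [← map_mul, zr, ← map_one S.toR, S.toR_eq, S.toR_eq, S.qel_one, S.qel_zd, S.qel_mul]
    rcases D.ext2.sq (S.qel d) with e | e
    · exact Or.inl (Or.inl e.symm)
    · exact Or.inr (Or.inl e.symm)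

theorem card_R : Nat.card ↥S.R = 2 ^ (2 * 11 + 1) := by
  have h := S.toR.ker.card_mul_index
  rw [Subgroup.index_ker, MonoidHom.range_eq_top.mpr S.toR_surjective, Subgroup.card_top] at h
  have hd : Nat.card ↥(Q.subgroupOf S.CD) = 2 ^ 24 := by
    rw [← D.card_centralizer_Q S.nc, inf_comm, ← Subgroup.subgroupOf_map_subtype,
      Subgroup.card_map_of_injective S.CD.subtype_injective]
  obtain ⟨d, hdt⟩ := S.exists_qel (q := S.t) rfl
  have hk : Nat.card ↥S.toR.ker = 2 := by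
    refine (Nat.card_eq_two_iff' (1 : ↥S.toR.ker)).mpr ⟨⟨d, ?_⟩, fun e => ?_, ?_⟩
    · rw [MonoidHom.mem_ker, eq_comm, ← map_one S.toR, S.toR_eq, S.qel_one, hdt, one_mul]
      exact Or.inr rfl
    · have e' : d = 1 := congrArg Subtype.val e
      exact S.nc (by rw [← hdt, e', S.qel_one]; exact one_mem _)
    · rintro ⟨x, hx⟩ hne
      rw [MonoidHom.mem_ker, eq_comm, ← map_one S.toR, S.toR_eq, S.qel_one, one_mul] at hx
      rcases hx with hx | hx
      · exfalso
        exact hne (Subtype.ext (Subtype.ext (Subtype.ext (congrArg (fun q : Q => (q : Cz z)) hx))))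
      · exact Subtype.ext (Subtype.ext (Subtype.ext (congrArg (fun q : Q => (q : Cz z)) (hx.trans hdt.symm))))
  rw [hk, hd] at h
  norm_num at h ⊢
  omega

theorem extraspecial_R : IsExtraspecial 2 ↥S.R := by
  obtain ⟨a, ha⟩ : ∃ a : ↥S.R, a ∉ Subgroup.center ↥S.R := by
    by_contra h
    push Not at h
    have h2 := S.ext2R.card_center
    rw [show Subgroup.center ↥S.R = ⊤ from eq_top_iff.mpr fun x _ => h x, Subgroup.card_top, S.card_R] at h2
    norm_num at h2
  rw [Subgroup.mem_center_iff] at ha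
  push Not at ha
  obtain ⟨b, hb⟩ := ha
  exact CfsgLargeExtra.isExtraspecial_of_ext2 S.ext2R hb

/-! ### The factor group -/

omit [S.N.Normal] in
theorem map_range :
    S.CD.map (QuotientGroup.mk' Q) = ((D.phi S.g₀).toMonoidHom.comp coTwoHom).range := by
  rw [MonoidHom.range_comp, coTwoHom_range]
  exact D.map_phi S.vec S.nc rfl

omit [S.N.Normal] in
theorem exists_pi : ∃ π : ↥S.CD →* ↥Spor.Co2, Function.Surjective π ∧ π.ker = Q.subgroupOf S.CD ∧
    ∀ d : ↥S.CD, D.phi S.g₀ (coTwoHom (π d)) = QuotientGroup.mk (d : Cz z) := by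
  set ι := (D.phi S.g₀).toMonoidHom.comp coTwoHom with hι
  have hinj : Function.Injective ι := (D.phi S.g₀).injective.comp coTwoHom_injective
  set m := (QuotientGroup.mk' Q).comp S.CD.subtype with hm
  have hmem : ∀ d, m d ∈ ι.range := fun d => by
    rw [hι, ← S.map_range]; exact Subgroup.mem_map_of_mem _ d.2
  set π := (MonoidHom.ofInjective hinj).symm.toMonoidHom.comp (m.codRestrict ι.range hmem) with hπ
  have key : ∀ d, ι (π d) = m d := fun d =>
    congrArg Subtype.val ((MonoidHom.ofInjective hinj).apply_symm_apply (m.codRestrict ι.range hmem d))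
  refine ⟨π, fun g => ?_, ?_, key⟩
  · have : ι g ∈ S.CD.map (QuotientGroup.mk' Q) := by rw [S.map_range]; exact ⟨g, rfl⟩
    obtain ⟨d, hd, he⟩ := this
    exact ⟨⟨d, hd⟩, hinj ((key _).trans he)⟩
  · ext d
    rw [MonoidHom.mem_ker, ← hinj.eq_iff, key, map_one, Subgroup.mem_subgroupOf]
    exact QuotientGroup.eq_one_iff _

/-- The identification of the factor group. -/
theorem exists_e : ∃ (π : ↥S.CD →* ↥Spor.Co2) (e : ↥(Subgroup.centralizer ({S.zb} : Set S.Gb)) ⧸ S.R ≃* ↥Spor.Co2),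
    Function.Surjective π ∧ π.ker = Q.subgroupOf S.CD ∧
    (∀ d : ↥S.CD, D.phi S.g₀ (coTwoHom (π d)) = QuotientGroup.mk (d : Cz z)) ∧
    ∀ d : ↥S.CD, e (QuotientGroup.mk (S.toC d)) = π d := by
  obtain ⟨π, hs, hk, hπ⟩ := S.exists_pi
  have hker : S.toC.ker ≤ π.ker := fun d hd => by
    rw [MonoidHom.mem_ker, eq_comm, ← map_one S.toC, S.toC_eq] at hd
    rw [hk, Subgroup.mem_subgroupOf]
    rcases hd with h | h
    · rw [h]; exact one_mem _
    · rw [h, OneMemClass.coe_one, one_mul]; exact S.t.2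
  set F := S.toC.liftOfSurjective S.toC_surjective ⟨π, hker⟩ with hF
  have hFd : ∀ d, F (S.toC d) = π d := fun d =>
    MonoidHom.liftOfRightInverse_comp_apply _ _ _ ⟨π, hker⟩ d
  have hFk : F.ker = S.R := by
    ext x
    obtain ⟨d, rfl⟩ := S.toC_surjective x
    rw [MonoidHom.mem_ker, hFd, ← MonoidHom.mem_ker, hk]
    constructor
    · exact fun h => ⟨d, h, rfl⟩
    · rintro ⟨d', hd', he⟩
      have hd'' : π d' = 1 := by rw [← MonoidHom.mem_ker, hk]; exact hd'
      rw [← hk, MonoidHom.mem_ker, ← hFd, ← he, hFd, hd'']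
  have hFs : Function.Surjective F := fun g => by
    obtain ⟨d, rfl⟩ := hs g; exact ⟨_, hFd d⟩
  exact ⟨π, (QuotientGroup.quotientMulEquivOfEq hFk.symm).trans (QuotientGroup.quotientKerEquivOfSurjective F hFs),
    hs, hk, hπ, hFd⟩

omit [S.N.Normal] in
/-- How an element of the centraliser moves the classes. -/
theorem psi_act {π : ↥S.CD →* ↥Spor.Co2}
    (hπ : ∀ d : ↥S.CD, D.phi S.g₀ (coTwoHom (π d)) = QuotientGroup.mk (d : Cz z)) (d : ↥S.CD)
    {x : ↥leechLattice} {q : Q} (h : D.ψ (S.g₀ • x) = QuotientGroup.mk q) :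
    D.ψ (S.g₀ • coTwoIncl (π d) • x) = QuotientGroup.mk
      ⟨(d : Cz z) * q * (d : Cz z)⁻¹, (inferInstance : Q.Normal).conj_mem _ q.2 _⟩ := by
  have hk : (QuotientGroup.mk (S.g₀ * coTwoIncl (π d) * S.g₀⁻¹) : Spor.Co1) = D.e (QuotientGroup.mk (d : Cz z)) := by
    rw [← hπ]; simp [Data.phi, coTwoHom, MulAut.conj_apply]
  have h1 := D.iso.2.2.2 (d : Cz z) _ hk (S.g₀ • x) q h
  rwa [mul_smul, inv_smul_smul, mul_smul] at h1

omit [S.N.Normal] in
theorem comm_iff_perp {x : ↥leechLattice} {q : Q} (h : D.ψ (S.g₀ • x) = QuotientGroup.mk q) :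
    q * S.t = S.t * q ↔ x ∈ leechPerpU := by
  have h1 : D.ψ (S.g₀ • (x + Spor.leechU)) = QuotientGroup.mk (q * S.t) := by
    rw [aut_add, D.psi_add, h, S.vec, QuotientGroup.mk_mul]
  have hb : D.sqf (q * S.t) = D.sqf q + D.sqf S.t + D.bf q S.t := D.sqf_mul q S.t
  rw [← D.rep_spec h1, ← D.rep_spec h, ← D.rep_spec S.vec] at hb
  change D.qf _ = D.qf _ + D.qf _ + _ at hb
  rw [D.qf_eq, D.qf_eq, D.qf_eq, S.u_norm, aut_norm, aut_norm] at hb
  have h16a := sqNorm_dvd (mem_leech.mp (x + Spor.leechU).2)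
  have h16b := sqNorm_dvd (mem_leech.mp x.2)
  rw [mem_perpU]
  generalize sqNorm ((x + Spor.leechU : ↥leechLattice) : GolayPt → ℤ) = A at hb h16a ⊢
  generalize sqNorm (x : GolayPt → ℤ) = B at hb h16b ⊢
  have e : D.bf q S.t = ((A / 16 - B / 16 - 32 / 16 : ℤ) : ZMod 2) := by
    push_cast
    rw [hb]; ring
  have key : ((A / 16 - B / 16 - 32 / 16 : ℤ) : ZMod 2) = 0 ↔ (32 : ℤ) ∣ A - B - 32 := by
    rw [ZMod.intCast_zmod_eq_zero_iff_dvd]
    norm_num
    omega
  rw [← key, ← e]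
  unfold Data.bf
  by_cases hq : q * S.t = S.t * q <;> simp [hq]

/-- `C(R) ≤ R`. -/
theorem centralizer_R : Subgroup.centralizer (S.R : Set _) ≤ S.R := by
  obtain ⟨π, e, hs, hk, hπ, he⟩ := S.exists_e
  haveI := spor_co2_simple
  set M := Subgroup.centralizer (S.R : Set ↥(Subgroup.centralizer ({S.zb} : Set S.Gb)))
  haveI : M.Normal := inferInstance
  have hn : (M.map (QuotientGroup.mk' S.R)).Normal := Subgroup.Normal.map inferInstance _ QuotientGroup.mk_surjective
  haveI : ((M.map (QuotientGroup.mk' S.R)).map e.toMonoidHom).Normal := hn.map _ e.surjective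
  rcases IsSimpleGroup.eq_bot_or_eq_top_of_normal ((M.map (QuotientGroup.mk' S.R)).map e.toMonoidHom) inferInstance
    with h | h
  · rw [(Subgroup.map_eq_bot_iff_of_injective _ e.injective), Subgroup.map_eq_bot_iff, QuotientGroup.ker_mk'] at h
    exact h
  · exfalso
    obtain ⟨g, x, hx, hx0, hxu⟩ := coTwo_nontrivial
    have hg : g ∈ (M.map (QuotientGroup.mk' S.R)).map e.toMonoidHom := h ▸ Subgroup.mem_top g
    obtain ⟨_, ⟨c, hc, rfl⟩, hge⟩ := hg
    obtain ⟨d, rfl⟩ := S.toC_surjective c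
    have hpd : π d = g := (he d).symm.trans hge
    obtain ⟨q, hq⟩ := QuotientGroup.mk_surjective (D.ψ (S.g₀ • x))
    obtain ⟨dq, hdq⟩ := S.exists_qel ((S.comm_iff_perp hq.symm).mpr hx)
    have hcomm : S.toC (dq : ↥S.CD) * S.toC d = S.toC d * S.toC (dq : ↥S.CD) :=
      Subgroup.mem_centralizer_iff.mp hc _ ⟨(dq : ↥S.CD), dq.2, rfl⟩
    rw [← map_mul, ← map_mul, S.toC_eq, Subgroup.coe_mul, Subgroup.coe_mul] at hcomm
    have hqd : ((dq : ↥S.CD) : Cz z) = (q : Cz z) := congrArg (fun y : Q => (y : Cz z)) hdq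
    rw [hqd] at hcomm
    have h1 := S.psi_act hπ d hq.symm
    rw [hpd] at h1
    have htd : (S.t : Cz z) * (d : Cz z)⁻¹ = (d : Cz z)⁻¹ * (S.t : Cz z) :=
      ((show Commute (d : Cz z) (S.t : Cz z) from Subgroup.mem_centralizer_singleton_iff.mp d.2).inv_left).eq.symm
    rcases hcomm with hc' | hc'
    · refine hx0 ?_
      have h2 : D.ψ (S.g₀ • coTwoIncl g • x) = D.ψ (S.g₀ • x) := by
        rw [h1, ← hq]
        exact congrArg QuotientGroup.mk (Subtype.ext (by
          show (d : Cz z) * (q : Cz z) * (d : Cz z)⁻¹ = (q : Cz z)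
          rw [hc']; group))
      have h3 := Cg.map' S.g₀⁻¹ (D.psi_cg.mp h2)
      rwa [inv_smul_smul, inv_smul_smul] at h3
    · refine hxu ?_
      have h2 : D.ψ (S.g₀ • coTwoIncl g • x) = D.ψ (S.g₀ • (x + Spor.leechU)) := by
        rw [h1, aut_add, D.psi_add, ← hq, S.vec, ← QuotientGroup.mk_mul]
        refine congrArg QuotientGroup.mk (Subtype.ext ?_)
        rw [Subgroup.coe_mul]
        calc (d : Cz z) * (q : Cz z) * (d : Cz z)⁻¹ = (q : Cz z) * (d : Cz z) * (S.t : Cz z) * (d : Cz z)⁻¹ := by rw [hc']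
          _ = (q : Cz z) * (d : Cz z) * ((S.t : Cz z) * (d : Cz z)⁻¹) := by rw [mul_assoc]
          _ = (q : Cz z) * (S.t : Cz z) := by rw [htd]; group
      have h3 := Cg.map' S.g₀⁻¹ (D.psi_cg.mp h2)
      rwa [inv_smul_smul, inv_smul_smul] at h3

theorem gfit_R : generalizedFittingSubgroup ↥(Subgroup.centralizer ({S.zb} : Set S.Gb)) = S.R := by
  haveI := Fact.mk Nat.prime_two
  obtain ⟨π, e, hs, hk, hπ, he⟩ := S.exists_e
  haveI := spor_co2_simple
  have h2R : IsPGroup 2 ↥S.R := S.extraspecial_R.1.1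
  have hRle : S.R ≤ pCore 2 _ := CfsgLib.le_pCore h2R
  have hcore : pCore 2 ↥(Subgroup.centralizer ({S.zb} : Set S.Gb)) = S.R := by
    set P := pCore 2 ↥(Subgroup.centralizer ({S.zb} : Set S.Gb))
    have hn : (P.map (QuotientGroup.mk' S.R)).Normal := Subgroup.Normal.map inferInstance _ QuotientGroup.mk_surjective
    haveI : ((P.map (QuotientGroup.mk' S.R)).map e.toMonoidHom).Normal := hn.map _ e.surjective
    rcases IsSimpleGroup.eq_bot_or_eq_top_of_normal ((P.map (QuotientGroup.mk' S.R)).map e.toMonoidHom) inferInstance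
      with h | h
    · rw [(Subgroup.map_eq_bot_iff_of_injective _ e.injective), Subgroup.map_eq_bot_iff, QuotientGroup.ker_mk'] at h
      exact le_antisymm h hRle
    · exfalso
      have hc : Nat.card ↥Spor.Co2 = 42305421312000 := by
        rw [← card_co2 leechU_norm32]
        refine Nat.card_congr
          { toFun := fun g => ⟨coTwoIncl g, coTwoIncl_fix g⟩
            invFun := fun g => ⟨g.1.1, g.1.2, g.2⟩
            left_inv := fun g => rfl
            right_inv := fun g => rfl }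
      haveI : Finite ↥Spor.Co2 := Nat.finite_of_card_ne_zero (by rw [hc]; norm_num)
      have h2 : IsPGroup 2 ↥((P.map (QuotientGroup.mk' S.R)).map e.toMonoidHom) :=
        ((isPGroup_pCore 2).map _).map _
      rw [h] at h2
      obtain ⟨k, hk'⟩ := h2.exists_card_eq
      rw [Subgroup.card_top] at hk'
      rw [hc] at hk'
      have h3 : 3 ∣ 2 ^ k := ⟨14101807104000, by omega⟩
      exact absurd (Nat.prime_three.dvd_of_dvd_pow h3) (by norm_num)
  rw [(CfsgLib.Comp.gfit_eq_pCore_iff 2).mpr (by rw [hcore]; exact S.centralizer_R), hcore]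

theorem setting : IsExtraspecialCentralizerSetting S.zb S.R 11 := by
  refine ⟨S.zb_order, S.gfit_R, S.extraspecial_R, S.card_R, ?_⟩
  obtain ⟨h, b, hh, hb, hne, hbt⟩ := D.exists_move S.two S.notconj
  have hhH : h ∈ S.H := Subgroup.mem_centralizer_singleton_iff.mpr (mul_inv_eq_iff_eq_mul.mp hh)
  obtain ⟨d, hd⟩ := S.exists_qel hbt
  have he : QuotientGroup.mk ⟨h, hhH⟩ * S.zb * (QuotientGroup.mk ⟨h, hhH⟩)⁻¹ =
      ((S.toR d : ↥(Subgroup.centralizer ({S.zb} : Set S.Gb))) : S.Gb) := by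
    show (QuotientGroup.mk (⟨h, hhH⟩ * ⟨z, S.z_mem⟩ * ⟨h, hhH⟩⁻¹) : S.Gb) = _
    refine congrArg QuotientGroup.mk (Subtype.ext ?_)
    show h * z * h⁻¹ = (((d : ↥S.CD) : Cz z) : G)
    rw [hb, ← hd]
    rfl
  refine ⟨QuotientGroup.mk ⟨h, hhH⟩, ⟨?_, ?_⟩, ?_⟩
  · rw [he]; exact (S.toR d : ↥(Subgroup.centralizer ({S.zb} : Set S.Gb))).2
  · simp only [he]; exact (S.toR d).2
  · rw [he]
    intro heq
    have hc' : (QuotientGroup.mk ⟨(((d : ↥S.CD) : Cz z) : G), S.cd_mem d⟩ : S.Gb) = QuotientGroup.mk ⟨z, S.z_mem⟩ := heq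
    have hdb : (((d : ↥S.CD) : Cz z) : G) = ((b : Cz z) : G) := congrArg (fun q : Q => ((q : Cz z) : G)) hd
    have hc : z = ((b : Cz z) : G) ∨ z = ((b : Cz z) : G) * S.el := hdb ▸ S.mk_eq_mk.mp hc'
    have hbz : IsConj z ((b : Cz z) : G) := isConj_iff.mpr ⟨h, hb⟩
    rcases hc with hc | hc
    · exact hne hc.symm
    · have : ((b : Cz z) : G) = z * S.el := by
        calc ((b : Cz z) : G) = ((b : Cz z) : G) * (S.el * S.el) := by
              rw [← pow_two, ← S.two, pow_orderOf_eq_one, mul_one]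
          _ = ((b : Cz z) : G) * S.el * S.el := (mul_assoc _ _ _).symm
          _ = z * S.el := congrArg (· * S.el) hc.symm
      exact S.not_conj_zt (this ▸ hbz)

theorem babyMonster : IsOfBabyMonsterType S.Gb := by
  obtain ⟨π, e, hs, hk, hπ, he⟩ := S.exists_e
  refine ⟨S.zb, S.R, inferInstance, S.setting, e, ?_⟩
  have hex : ∀ x : leechPerpU, ∃ d : ↥(Q.subgroupOf S.CD),
      D.ψ (S.g₀ • (x : ↥leechLattice)) = QuotientGroup.mk (S.qel d) := fun x => by
    obtain ⟨q, hq⟩ := QuotientGroup.mk_surjective (D.ψ (S.g₀ • (x : ↥leechLattice)))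
    obtain ⟨d, hd⟩ := S.exists_qel ((S.comm_iff_perp hq.symm).mpr x.2)
    exact ⟨d, by rw [hd]; exact hq.symm⟩
  choose dd hdd using hex
  have hwd : ∀ {x : leechPerpU} {d : ↥(Q.subgroupOf S.CD)},
      D.ψ (S.g₀ • (x : ↥leechLattice)) = QuotientGroup.mk (S.qel d) →
      (QuotientGroup.mk (S.toR (dd x)) : ↥S.R ⧸ Subgroup.center ↥S.R) = QuotientGroup.mk (S.toR d) := by
    intro x d h
    rcases D.mk_eq_mk.mp ((hdd x).symm.trans h) with h1 | h1
    · rw [show S.toR (dd x) = S.toR d from S.toR_eq.mpr (Or.inl h1)]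
    · have : S.toR d = S.toR (dd x) * S.zr := by
        rw [zr, ← map_mul, eq_comm, S.toR_eq, S.qel_mul, S.qel_zd]; exact Or.inl h1
      rw [this, QuotientGroup.mk_mul, (QuotientGroup.eq_one_iff S.zr).mpr ((S.ext2R.center_iff _).mpr (Or.inr rfl)), mul_one]
  refine ⟨fun x => QuotientGroup.mk (S.toR (dd x)), fun x y => ?_, fun r => ?_, fun x => ?_, ?_⟩
  · rw [← QuotientGroup.mk_mul, ← map_mul]
    refine hwd ?_
    rw [AddSubgroup.coe_add, aut_add, D.psi_add, hdd, hdd, S.qel_mul, QuotientGroup.mk_mul]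
  · obtain ⟨r, rfl⟩ := QuotientGroup.mk_surjective r
    obtain ⟨d, rfl⟩ := S.toR_surjective r
    obtain ⟨v, hv⟩ := D.iso.2.1 (QuotientGroup.mk (S.qel d))
    have hv' : D.ψ (S.g₀ • (S.g₀⁻¹ • v)) = QuotientGroup.mk (S.qel d) := by rw [smul_inv_smul]; exact hv
    exact ⟨⟨_, (S.comm_iff_perp hv').mp (S.qel_comm d)⟩, hwd (x := ⟨_, (S.comm_iff_perp hv').mp (S.qel_comm d)⟩) hv'⟩
  · have hd1 : (QuotientGroup.mk (S.toR (dd x)) : ↥S.R ⧸ Subgroup.center ↥S.R) = 1 ↔
        D.ψ (S.g₀ • (x : ↥leechLattice)) = 1 ∨ D.ψ (S.g₀ • (x : ↥leechLattice)) = QuotientGroup.mk S.t := by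
      rw [QuotientGroup.eq_one_iff, S.ext2R.center_iff, zr, eq_comm, ← map_one S.toR, S.toR_eq, eq_comm (a := S.toR (dd x)), S.toR_eq, S.qel_one,
        S.qel_zd, hdd, ← QuotientGroup.mk_one, D.mk_eq_mk, D.mk_eq_mk, one_mul]
      have hzt : D.zq * S.t = S.t * D.zq := (D.ext2.z_comm S.t).eq.symm
      rw [hzt]
      have hzz := D.ext2.zz
      have htt := S.tt
      constructor
      · rintro ((h | h) | h | h) <;> rw [h]
        · exact Or.inl (Or.inl rfl)
        · exact Or.inr (Or.inl rfl)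
        · exact Or.inl (Or.inr (by rw [hzz]))
        · exact Or.inr (Or.inr (by rw [mul_assoc, hzz, mul_one]))
      · rintro ((h | h) | h | h)
        · exact Or.inl (Or.inl h.symm)
        · exact Or.inr (Or.inl (by
            calc S.qel (dd x) = S.qel (dd x) * D.zq * D.zq := by rw [mul_assoc, hzz, mul_one]
              _ = D.zq := by rw [← h, one_mul]))
        · exact Or.inl (Or.inr h.symm)
        · exact Or.inr (Or.inr (by
            calc S.qel (dd x) = S.qel (dd x) * D.zq * D.zq := by rw [mul_assoc, hzz, mul_one]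
              _ = S.t * D.zq := by rw [← h]))
    rw [hd1]
    constructor
    · rintro (h | h)
      · left
        obtain ⟨w, hw⟩ := (D.iso.2.2.1 _).mp h
        exact ⟨S.g₀⁻¹ • w, by rw [← aut_add, ← hw, inv_smul_smul]⟩
      · right
        obtain ⟨w, hw⟩ := D.psi_cg.mp (h.trans S.vec.symm)
        refine ⟨S.g₀⁻¹ • w, ?_⟩
        rw [← aut_add, ← hw, aut_sub, inv_smul_smul, inv_smul_smul]; abel
    · rintro (⟨w, hw⟩ | ⟨w, hw⟩)
      · left
        rw [hw, aut_add]
        exact (D.iso.2.2.1 _).mpr ⟨S.g₀ • w, rfl⟩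
      · right
        rw [← S.vec]
        exact D.psi_cg.mpr ⟨S.g₀ • w, by rw [hw, aut_add, aut_add]; abel⟩
  · intro hc g hg x y hxy r hr
    obtain ⟨d, rfl⟩ := S.toC_surjective hc
    obtain ⟨dq, rfl⟩ := S.toR_surjective r
    have hgd : π d = g := (he d).symm.trans hg
    have hrel := S.psi_act hπ d (hdd x)
    rw [hgd] at hrel
    have hy : D.ψ (S.g₀ • (y : ↥leechLattice)) = D.ψ (S.g₀ • coTwoIncl g • (x : ↥leechLattice)) := by
      rw [← hxy]; rfl
    -- the element `d` conjugates the chosen representative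
    have hm : d * ((dd x : ↥(Q.subgroupOf S.CD)) : ↥S.CD) * d⁻¹ ∈ Q.subgroupOf S.CD :=
      (inferInstance : (Q.subgroupOf S.CD).Normal).conj_mem _ (dd x).2 d
    have h1 : (QuotientGroup.mk (S.toR (dd y)) : ↥S.R ⧸ Subgroup.center ↥S.R) = QuotientGroup.mk (S.toR ⟨_, hm⟩) :=
      hwd (by rw [hy, hrel]; exact congrArg QuotientGroup.mk (Subtype.ext rfl))
    show (QuotientGroup.mk (S.toR (dd y)) : ↥S.R ⧸ Subgroup.center ↥S.R) = _
    rw [h1]
    have h2 : (QuotientGroup.mk (S.toR (dd x)) : ↥S.R ⧸ Subgroup.center ↥S.R) = QuotientGroup.mk (S.toR dq) := hr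
    rw [QuotientGroup.eq] at h2 ⊢
    refine center_conj S.R (S.toC d) ?_ rfl h2
    show S.toC (d * ((dd x : ↥(Q.subgroupOf S.CD)) : ↥S.CD) * d⁻¹) = _
    rw [map_mul, map_mul, map_inv]
    rfl

end Short

end CfsgLib.MonsterQ
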